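import Cfsg.Agent.Lib.SemisimpleOrth.NormRing
import Cfsg.Agent.Lib.ClassicalSimple.PGOOmega

/-!
The algebra of a semisimple isometry `M` (`M^r = 1`, `r` odd and invertible) of a quadratic form, with the
adjoint involution; the idempotent of its moving part.
-/

set_option autoImplicit false

namespace Cfsg.Agent.SemisimpleOrth

open scoped Matrix

variable {F : Type*} [Field F] {ι : Type} [Fintype ι] [DecidableEq ι] (Q : QuadraticForm F (ι → F))

/-- The matrix of the polar form. -/
noncomputable def gramM : Matrix ι ι F := LinearMap.BilinForm.toMatrix' (QuadraticMap.polarBilin Q)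

theorem polar_eq (u v : ι → F) : QuadraticMap.polar ⇑Q u v = u ⬝ᵥ (gramM Q *ᵥ v) := by
  rw [← QuadraticMap.polarBilin_apply_apply, ← Matrix.toBilin'_apply', gramM, Matrix.toBilin'_toMatrix']

theorem gramM_transpose : (gramM Q)ᵀ = gramM Q := by
  ext i j
  simp [gramM, LinearMap.BilinForm.toMatrix'_apply, QuadraticMap.polar_comm]

theorem polar_self' (v : ι → F) : QuadraticMap.polar ⇑Q v v = 2 * Q v := by
  rw [QuadraticMap.polar_self, nsmul_eq_mul]; norm_num

/-- The adjoint. -/
noncomputable def adj (X : Matrix ι ι F) : Matrix ι ι F := (gramM Q)⁻¹ * Xᵀ * gramM Q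

variable {Q} (hN : (QuadraticMap.polarBilin Q).Nondegenerate)
include hN

theorem det_gramM : IsUnit (gramM Q).det := by
  have := (LinearMap.BilinForm.nondegenerate_iff_det_ne_zero (Pi.basisFun F ι)).1 hN
  rw [LinearMap.BilinForm.toMatrix_basisFun] at this
  exact isUnit_iff_ne_zero.2 this

theorem adj_one : adj Q 1 = 1 := by
  rw [adj, Matrix.transpose_one, mul_one, Matrix.nonsing_inv_mul _ (det_gramM hN)]

theorem adj_mul (X Y : Matrix ι ι F) : adj Q (X * Y) = adj Q Y * adj Q X := by
  simp only [adj, Matrix.transpose_mul, Matrix.mul_assoc,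
    Matrix.mul_nonsing_inv_cancel_left _ _ (det_gramM hN)]

theorem adj_adj (X : Matrix ι ι F) : adj Q (adj Q X) = X := by
  simp only [adj, Matrix.transpose_mul, Matrix.transpose_transpose, Matrix.transpose_nonsing_inv,
    gramM_transpose, Matrix.mul_assoc, Matrix.nonsing_inv_mul_cancel_left _ _ (det_gramM hN),
    Matrix.nonsing_inv_mul _ (det_gramM hN), mul_one]

omit hN in
theorem adj_add (X Y : Matrix ι ι F) : adj Q (X + Y) = adj Q X + adj Q Y := by
  simp [adj, Matrix.transpose_add, mul_add, add_mul]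

omit hN in
theorem adj_smul (c : F) (X : Matrix ι ι F) : adj Q (c • X) = c • adj Q X := by
  simp [adj, Matrix.transpose_smul]

theorem polar_adj (X : Matrix ι ι F) (u v : ι → F) :
    QuadraticMap.polar ⇑Q (X *ᵥ u) v = QuadraticMap.polar ⇑Q u (adj Q X *ᵥ v) := by
  rw [polar_eq, polar_eq, adj, Matrix.mulVec_mulVec, Matrix.mul_assoc,
    Matrix.mul_nonsing_inv_cancel_left _ _ (det_gramM hN), dotProduct_comm, ← Matrix.mulVec_mulVec,
    Matrix.dotProduct_mulVec u, Matrix.vecMul_transpose, dotProduct_comm]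

theorem quad_of_adj (h2 : (2 : F) ≠ 0) {X : Matrix ι ι F} {c : F} (hX : adj Q X * X = c • 1) (v : ι → F) :
    Q (X *ᵥ v) = c * Q v := by
  have h := polar_adj hN X v (X *ᵥ v)
  rw [polar_self', Matrix.mulVec_mulVec, hX, Matrix.smul_mulVec, Matrix.one_mulVec,
    QuadraticMap.polar_smul_right, smul_eq_mul, polar_self'] at h
  exact mul_left_cancel₀ h2 (by linear_combination h)

theorem adj_eq_of_isometry {X Y : Matrix ι ι F} (hX : ∀ v, Q (X *ᵥ v) = Q v) (hXY : X * Y = 1) :
    adj Q X = Y := by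
  have hp : ∀ u v, u ⬝ᵥ ((Xᵀ * gramM Q * X) *ᵥ v) = u ⬝ᵥ (gramM Q *ᵥ v) := by
    intro u v
    rw [← polar_eq, ← Matrix.mulVec_mulVec, ← Matrix.mulVec_mulVec, Matrix.dotProduct_mulVec,
      Matrix.vecMul_transpose, ← polar_eq]
    simp only [QuadraticMap.polar, ← Matrix.mulVec_add, hX]
  have he : Xᵀ * gramM Q * X = gramM Q := by
    ext i j
    have := hp (Pi.single i 1) (Pi.single j 1)
    simpa using this
  calc adj Q X = adj Q X * (X * Y) := by rw [hXY, mul_one]
    _ = (gramM Q)⁻¹ * (Xᵀ * gramM Q * X) * Y := by simp only [adj, Matrix.mul_assoc]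
    _ = Y := by rw [he, Matrix.nonsing_inv_mul _ (det_gramM hN), one_mul]

omit hN

/-- A semisimple isometry of odd exponent. -/
structure OddSS (Q : QuadraticForm F (ι → F)) (M : Matrix ι ι F) (r : ℕ) : Prop where
  nondeg : (QuadraticMap.polarBilin Q).Nondegenerate
  two : (2 : F) ≠ 0
  odd : Odd r
  unit : (r : F) ≠ 0
  pow : M ^ r = 1
  isometry : ∀ v, Q (M *ᵥ v) = Q v

/-- The algebra generated by `M`. -/
abbrev algebraOf (M : Matrix ι ι F) : Subalgebra F (Matrix ι ι F) := Algebra.adjoin F {M}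

noncomputable instance (M : Matrix ι ι F) : CommRing (algebraOf M) :=
  { (algebraOf M).toRing with mul_comm := fun a b => mul_comm' a b }

variable {M : Matrix ι ι F} {r : ℕ}

theorem commute_of_mem {X : Matrix ι ι F} (hX : X ∈ algebraOf M) : Commute X M :=
  congrArg Subtype.val (mul_comm' (⟨X, hX⟩ : algebraOf M) ⟨M, Algebra.self_mem_adjoin_singleton F M⟩)

theorem OddSS.isReduced (h : OddSS Q M r) : IsReduced (algebraOf M) := by
  classical
  refine ⟨fun x hx => ?_⟩
  obtain ⟨n, hn⟩ := hx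
  obtain ⟨p, hp⟩ : ∃ p : Polynomial F, Polynomial.aeval M p = (x : Matrix ι ι F) := by
    have := (Algebra.adjoin_singleton_eq_range_aeval F M).le x.2
    exact this
  refine Subtype.ext ?_
  have hdvd : minpoly F M ∣ Polynomial.X ^ r - Polynomial.C 1 :=
    minpoly.dvd F M (by simp [h.pow])
  have hsq : Squarefree (minpoly F M) :=
    ((Polynomial.separable_X_pow_sub_C 1 h.unit one_ne_zero).squarefree).squarefree_of_dvd hdvd
  rcases Nat.eq_zero_or_pos n with rfl | hn0
  · rw [pow_zero] at hn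
    have := congrArg (fun y => y * x) hn
    simpa using congrArg Subtype.val this
  have hpn : minpoly F M ∣ p ^ n := minpoly.dvd F M (by
    rw [map_pow, hp, ← SubmonoidClass.coe_pow, hn]; rfl)
  rw [← hp]
  obtain ⟨q, hq⟩ := (hsq.dvd_pow_iff_dvd hn0.ne').1 hpn
  rw [hq, map_mul, minpoly.aeval, zero_mul]
  rfl

theorem OddSS.adj_mem (h : OddSS Q M r) {X : Matrix ι ι F} (hX : X ∈ algebraOf M) : adj Q X ∈ algebraOf M := by
  induction hX using Algebra.adjoin_induction with
  | mem y hy =>
    rw [Set.mem_singleton_iff] at hy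
    subst hy
    have hr := h.odd.pos
    rw [adj_eq_of_isometry h.nondeg h.isometry (Y := y ^ (r - 1))
      (by rw [← pow_succ', Nat.sub_add_cancel hr, h.pow])]
    exact pow_mem (Algebra.self_mem_adjoin_singleton F y) _
  | algebraMap c =>
    rw [Algebra.algebraMap_eq_smul_one, adj_smul, adj_one h.nondeg]
    exact Subalgebra.smul_mem _ (one_mem _) c
  | add a b _ _ ha hb => rw [adj_add]; exact add_mem ha hb
  | mul a b _ _ ha hb => rw [adj_mul h.nondeg]; exact mul_mem hb ha

/-- The adjoint involution of the algebra. -/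
noncomputable def OddSS.theta (h : OddSS Q M r) : algebraOf M →+* algebraOf M where
  toFun x := ⟨adj Q x, h.adj_mem x.2⟩
  map_one' := Subtype.ext (adj_one h.nondeg)
  map_mul' x y := by
    rw [show x * y = y * x from mul_comm _ _]
    exact Subtype.ext (adj_mul h.nondeg _ _)
  map_zero' := Subtype.ext (by simp [adj])
  map_add' x y := Subtype.ext (adj_add _ _)

theorem OddSS.theta_apply (h : OddSS Q M r) (x : algebraOf M) :
    ((h.theta x : algebraOf M) : Matrix ι ι F) = adj Q (x : Matrix ι ι F) := rfl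

theorem OddSS.theta_theta (h : OddSS Q M r) (x : algebraOf M) : h.theta (h.theta x) = x :=
  Subtype.ext (adj_adj h.nondeg _)

theorem OddSS.theta_smul (h : OddSS Q M r) (c : F) (x : algebraOf M) : h.theta (c • x) = c • h.theta x :=
  Subtype.ext (adj_smul c _)

theorem OddSS.isUnit_two (h : OddSS Q M r) : IsUnit (2 : algebraOf M) := by
  rw [← map_ofNat (algebraMap F (algebraOf M)) 2]
  exact (isUnit_iff_ne_zero.2 h.two).map _

/-- The moving part of `M`: a fixed idempotent below which `M - M⁻¹` is cancellable. -/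
theorem OddSS.exists_support [Finite F] (h : OddSS Q M r) :
    ∃ e u : algebraOf M, IsIdempotentElem e ∧ h.theta e = e ∧ h.theta u = -u ∧
      (∀ y, u * y = 0 → e * y = 0) ∧
      ∀ v : ι → F, ((1 - e : algebraOf M) : Matrix ι ι F) *ᵥ v = v → M *ᵥ v = v := by
  have := h.isReduced
  let x : algebraOf M := ⟨M, Algebra.self_mem_adjoin_singleton F M⟩
  have hr := h.odd.pos
  have hxr : x ^ r = 1 := Subtype.ext h.pow
  have hθx : h.theta x = x ^ (r - 1) := Subtype.ext (adj_eq_of_isometry h.nondeg h.isometry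
    (by show M * M ^ (r - 1) = 1; rw [← pow_succ', Nat.sub_add_cancel hr, h.pow]))
  set u := x - x ^ (r - 1)
  have hu : h.theta u = -u := by
    have hinv : (x ^ (r - 1)) ^ (r - 1) = x := by
      calc (x ^ (r - 1)) ^ (r - 1) = (x ^ (r - 1)) ^ (r - 1) * (x ^ (r - 1) * x) := by
            rw [← pow_succ, Nat.sub_add_cancel hr, hxr, mul_one]
        _ = (x ^ (r - 1)) ^ r * x := by rw [← mul_assoc, ← pow_succ, Nat.sub_add_cancel hr]
        _ = x := by rw [← pow_mul, mul_comm (r - 1), pow_mul, hxr, one_pow, one_mul]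
    rw [map_sub, map_pow, hθx, neg_sub, hinv]
  obtain ⟨n, hn, hidem⟩ := exists_idem_pow u
  have hi := hidem 1 one_pos
  rw [mul_one] at hi
  obtain ⟨n', rfl⟩ := Nat.exists_eq_succ_of_ne_zero hn.ne'
  set e := u ^ (n' + 1)
  have heθ : h.theta e = e := by
    have hi2 := (hidem 2 (by norm_num)).eq
    have e1 : h.theta e = (-1) ^ (n' + 1) * e := by rw [map_pow, hu, neg_pow]
    have e2 : h.theta e * h.theta e = h.theta e := by rw [← map_mul, hi.eq]
    rcases neg_one_pow_eq_or (algebraOf M) (n' + 1) with h1 | h1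
    · rw [e1, h1, one_mul]
    · rw [e1, h1, neg_one_mul] at e2
      rw [neg_mul_neg, hi.eq] at e2
      rw [e1, h1, neg_one_mul, ← e2]
  refine ⟨e, u, hi, heθ, hu, fun y hy => by rw [show e = u ^ n' * u from pow_succ u n', mul_assoc, hy, mul_zero],
    fun v hv => ?_⟩
  have hue : u * (1 - e) = 0 := by
    refine eq_zero_of_pow (n := n' + 1) ?_
    have h1 : (1 - e) ^ (n' + 1) = 1 - e := hi.one_sub.pow_succ_eq n'
    rw [mul_pow, h1, mul_sub, mul_one, hi.eq, sub_self]
  have h1 : (u : Matrix ι ι F) *ᵥ v = 0 := by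
    rw [← hv, Matrix.mulVec_mulVec, ← Subalgebra.coe_mul, hue, ZeroMemClass.coe_zero, Matrix.zero_mulVec]
  have h2 : M *ᵥ v = M ^ (r - 1) *ᵥ v := by
    have h' : (M - M ^ (r - 1)) *ᵥ v = 0 := h1
    rwa [Matrix.sub_mulVec, sub_eq_zero] at h'
  have h3 : (M * M) *ᵥ v = v := by
    rw [← Matrix.mulVec_mulVec, h2, Matrix.mulVec_mulVec, ← pow_succ', Nat.sub_add_cancel hr, h.pow,
      Matrix.one_mulVec]
  have hk : ∀ j : ℕ, (M ^ (2 * j)) *ᵥ v = v := by
    intro j
    induction j with
    | zero => simp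
    | succ j ih => rw [Nat.mul_succ, pow_add, ← Matrix.mulVec_mulVec, pow_two, h3, ih]
  obtain ⟨j, hj⟩ := h.odd
  have e1 : M ^ r *ᵥ v = v := by rw [h.pow, Matrix.one_mulVec]
  rwa [hj, pow_succ', ← Matrix.mulVec_mulVec, hk] at e1

end Cfsg.Agent.SemisimpleOrth
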