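import Cfsg.Agent.Lib.SemisimpleOrth.Spin

/-!
The centraliser of an automorphism of odd prime order `r ≠ p` induced by a similarity covers `Inndiag / Inn`
and `PGO / PO`, so the classes do not split.
-/

set_option autoImplicit false

namespace Cfsg.Agent.SemisimpleOrth

open scoped Matrix
open ClassicalSimple

variable {F : Type*} [Field F] [Fintype F] [DecidableEq F] {ι : Type} [Fintype ι] [DecidableEq ι]
variable {Q : QuadraticForm F (ι → F)} {k : ℕ}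

omit [DecidableEq F] in
theorem mult_mul (E : EvenForm Q k) (g h : GO Q) : (mult (g * h) : F) = (mult g : F) * (mult h : F) := by
  rw [← Units.val_mul]
  exact congrArg Units.val (map_mul (multHom E) g h)

omit [DecidableEq F] in
/-- A semisimple isometry inducing `x`. -/
theorem exists_lift (E : EvenForm Q k) {x : MulAut (POmega F ⇑Q)} (hx : x ∈ pgoAut F ⇑Q) {r : ℕ}
    (hodd : Odd r) (hxr : orderOf x = r) (hr : (r : F) ≠ 0) (hx1 : x ≠ 1) :
    ∃ g : GO Q, simAut Q g = x ∧ g ≠ 1 ∧ OddSS Q g.1.val r := by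
  rw [pgoAut_eq] at hx
  obtain ⟨h₀, rfl⟩ := hx
  have hker : h₀ ^ r ∈ scalarSub Q := by
    rw [← ker_simAut Q E.nondeg E.five, MonoidHom.mem_ker, map_pow, ← hxr, pow_orderOf_eq_one]
  obtain ⟨a, ha, hma, -⟩ := scalar_classes E hker
  set μ := mult h₀
  have hμr : (μ : F) ^ r = a * a := by
    rw [← hma]
    calc (μ : F) ^ r = ((multHom E h₀ ^ r : Fˣ) : F) := (Units.val_pow_eq_pow_val _ _).symm
      _ = _ := by rw [← map_pow]; rfl
  have hsker : ∀ c : Fˣ, simAut Q (scalarGO Q c) = 1 := fun c => by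
    rw [← MonoidHom.mem_ker, ker_simAut Q E.nondeg E.five]
    exact scalarGO_mem c
  set g₁ := h₀ * h₀ * scalarGO Q μ⁻¹ with hg₁
  have hval : ∀ c : Fˣ, (scalarGO Q c).1.val = (c : F) • (1 : Matrix ι ι F) := fun c =>
    (Matrix.smul_one_eq_diagonal _).symm
  have hg₁v : g₁.1.val = (μ⁻¹ : Fˣ).val • (h₀.1.val * h₀.1.val) := by
    rw [hg₁, Subgroup.coe_mul, Units.val_mul, hval, Matrix.mul_smul, mul_one, Subgroup.coe_mul, Units.val_mul]
  have hg₁r : g₁.1.val ^ r = 1 := by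
    have hv : h₀.1.val ^ r = (a : F) • 1 := by rw [← ha, SubmonoidClass.coe_pow, Units.val_pow_eq_pow_val]
    rw [hg₁v, smul_pow, (Commute.refl h₀.1.val).mul_pow, hv, Matrix.smul_mul, one_mul, smul_smul, smul_smul,
      Units.val_inv_eq_inv_val, inv_pow, hμr, mul_assoc, inv_mul_cancel₀ (mul_ne_zero a.ne_zero a.ne_zero), one_smul]
  obtain ⟨j, hj⟩ := hodd
  have hgr : (g₁ ^ (j + 1)).1.val ^ r = 1 := by
    rw [SubmonoidClass.coe_pow, Units.val_pow_eq_pow_val, ← pow_mul, mul_comm, pow_mul, hg₁r, one_pow]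
  have hsim : simAut Q (g₁ ^ (j + 1)) = simAut Q h₀ := by
    rw [map_pow, hg₁, map_mul, map_mul, hsker, mul_one, ← pow_two, ← pow_mul,
      show 2 * (j + 1) = r + 1 by omega, pow_succ, ← hxr, pow_orderOf_eq_one, one_mul]
  refine ⟨g₁ ^ (j + 1), hsim, fun e => hx1 (by rw [← hsim, e, map_one]), E.nondeg, E.two, ⟨j, hj⟩, hr, hgr, fun v => ?_⟩
  have hm1 : (mult g₁ : F) = 1 := by
    refine mult_eq E g₁ 1 fun v => ?_
    rw [hg₁v, Matrix.smul_mulVec, QuadraticMap.map_smul, ← Matrix.mulVec_mulVec, mult_spec, mult_spec,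
      smul_eq_mul, Units.val_inv_eq_inv_val]
    field_simp
    rfl
  have hm : (mult (g₁ ^ (j + 1)) : F) = 1 := by
    calc (mult (g₁ ^ (j + 1)) : F) = ((multHom E g₁ ^ (j + 1) : Fˣ) : F) := by rw [← map_pow]; rfl
      _ = _ := by rw [show multHom E g₁ = 1 from Units.ext hm1, one_pow, Units.val_one]
  rw [mult_spec, hm, one_mul]

/-- The centraliser covers both quotients. -/
theorem covers (E : EvenForm Q k) {x : MulAut (POmega F ⇑Q)} (hx : x ∈ pgoAut F ⇑Q) {r : ℕ}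
    (hodd : Odd r) (hxr : orderOf x = r) (hr : (r : F) ≠ 0) (hx1 : x ≠ 1) :
    (∀ β ∈ innDiag E, ∃ γ ∈ innDiag E, Commute γ x ∧ β * γ⁻¹ ∈ Inn (POmega F ⇑Q)) ∧
    (∀ β ∈ pgoAut F ⇑Q, ∃ γ ∈ pgoAut F ⇑Q, Commute γ x ∧ β * γ⁻¹ ∈ poAut F ⇑Q) := by
  obtain ⟨g, rfl, hg1, hss⟩ := exists_lift E hx hodd hxr hr hx1
  obtain ⟨ν, hν0, hν⟩ := exists_nonsquare' E
  obtain ⟨s, hsg, hsm, hsd⟩ := exists_sim_commute E g hss hν0 hν
  -- adjust a similarity to square multiplier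
  have adjust : ∀ h : GO Q, ∃ c : GO Q, Commute c g ∧ dsign k c = 1 ∧ IsSquare (mult (h * c) : F) := by
    intro h
    by_cases hsq : IsSquare (mult h : F)
    · exact ⟨1, Commute.one_left g, dsign_one E, by rwa [mul_one]⟩
    · refine ⟨s, hsg, hsd, ?_⟩
      rw [mult_mul E, hsm]
      exact (QForm.isSquare_mul_nonsquare_iff (mult h).ne_zero hν).2 hsq
  refine ⟨?_, ?_⟩
  · rintro _ ⟨h, hh, rfl⟩
    obtain ⟨c, hcg, hcd, hsq⟩ := adjust h
    have hq : pgoClass E (h * c) = 1 := (pgoClass_eq_one E).2 ⟨hsq, by rw [dsign_mul E, hh, hcd, one_mul]⟩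
    have hmem : h * c ∈ soSub Q ⊔ (simAut Q).ker := by rw [← ker_pgoClass E]; exact MonoidHom.mem_ker.2 hq
    rw [Subgroup.mem_sup_of_normal_right] at hmem
    obtain ⟨q, hqs, z, hz, hqz⟩ := hmem
    obtain ⟨t, htg, hts⟩ := exists_spin_commute E g hss hg1
    obtain ⟨d, hdg, hdd, hdq⟩ : ∃ d : soSub Q, Commute d.1 g ∧ dsign k d.1 = 1 ∧ spin Q (⟨q, hqs⟩ * d) = 1 := by
      rcases Int.units_eq_one_or (spin Q ⟨q, hqs⟩) with e | e
      · exact ⟨1, Commute.one_left g, dsign_one E, by rw [mul_one, e]⟩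
      · exact ⟨t, htg, ((mem_soSub E _).1 t.2).2, by rw [map_mul, e, hts]; rfl⟩
    have hqd : q * d.1 ∈ omegaSub Q := by
      have h1 := (mem_omegaSub E ((⟨q, hqs⟩ : soSub Q) * d)).2 hdq
      rw [Subgroup.coe_mul] at h1
      exact h1
    have hcd' : (c * d.1)⁻¹ ∈ dsub E := inv_mem (by rw [mem_dsub, dsign_mul E, hcd, hdd, one_mul])
    refine ⟨simAut Q (c * d.1)⁻¹, Subgroup.mem_map_of_mem _ hcd', ((hcg.mul_left hdg).inv_left).map _, ?_⟩
    rw [← map_inv, inv_inv, ← map_mul, inn_eq]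
    refine ⟨q * d.1, hqd, ?_⟩
    rw [← mul_assoc, ← hqz, map_mul, map_mul, map_mul, MonoidHom.mem_ker.1 hz, mul_one]
  · intro β hβ
    rw [pgoAut_eq] at hβ
    obtain ⟨h, rfl⟩ := hβ
    obtain ⟨c, hcg, -, hsq⟩ := adjust h
    obtain ⟨a, ha⟩ := hsq
    have ha0 : a ≠ 0 := fun e => (mult (h * c)).ne_zero (by rw [ha, e, mul_zero])
    set z := scalarGO Q (Units.mk0 a ha0)⁻¹
    have hz : simAut Q z = 1 := by
      rw [← MonoidHom.mem_ker, ker_simAut Q E.nondeg E.five]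
      exact scalarGO_mem _
    refine ⟨simAut Q c⁻¹, by rw [pgoAut_eq]; exact ⟨_, rfl⟩, hcg.inv_left.map _, ?_⟩
    rw [← map_inv, inv_inv, ← map_mul, poAut_eq]
    refine ⟨h * c * z, ?_, by rw [map_mul, hz, mul_one]⟩
    rw [SetLike.mem_coe, Subgroup.mem_subgroupOf, mult_isometry E, mult_mul E, ha]
    have hmz : (mult z : F) = a⁻¹ * a⁻¹ := mult_eq E z _ fun v => by
      rw [show z.1.val = a⁻¹ • (1 : Matrix ι ι F) from by
        show Matrix.scalar ι _ = _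
        rw [Matrix.scalar_apply, ← Matrix.smul_one_eq_diagonal, Units.val_inv_eq_inv_val, Units.val_mk0],
        Matrix.smul_mulVec, Matrix.one_mulVec, QuadraticMap.map_smul, smul_eq_mul]
    rw [hmz]
    field_simp

/-- Classes under subgroups covered by the centraliser. -/
theorem conj_iff {X : Type*} [Group X] {S L : Subgroup X} (hSL : S ≤ L) {x : X}
    (h : ∀ β ∈ L, ∃ γ ∈ L, Commute γ x ∧ β * γ⁻¹ ∈ S) (y : X) :
    IsConjUnder S x y ↔ IsConjUnder L x y := by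
  refine ⟨fun ⟨β, hβ, e⟩ => ⟨β, hSL hβ, e⟩, fun ⟨β, hβ, e⟩ => ?_⟩
  obtain ⟨γ, -, hc, hm⟩ := h β hβ
  refine ⟨β * γ⁻¹, hm, ?_⟩
  rw [e, mul_inv_rev, inv_inv, mul_assoc β γ⁻¹ x, hc.inv_left.eq]
  group

end Cfsg.Agent.SemisimpleOrth

namespace Cfsg.Agent.SemisimpleOrth

open ClassicalSimple

variable {F : Type*} [Field F] [Fintype F] [DecidableEq F] {ι : Type} [Fintype ι] [DecidableEq ι]
variable {Q : QuadraticForm F (ι → F)} {k : ℕ}

/-- The class equalities. -/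
theorem classes_eq (E : EvenForm Q k) {x : MulAut (POmega F ⇑Q)} (hx : x ∈ pgoAut F ⇑Q) {p r : ℕ}
    [Fact p.Prime] [CharP F p] (hr : r.Prime) (hodd : Odd r) (hrp : r ≠ p) (hxr : orderOf x = r) :
    (∀ y, (IsConjUnder (Inn (POmega F ⇑Q)) x y ↔ IsConjUnder (innDiag E) x y) ∧
      (IsConjUnder (psoAut F ⇑Q) x y ↔ IsConjUnder (innDiag E) x y)) ∧
    ∀ y, IsConjUnder (poAut F ⇑Q) x y ↔ IsConjUnder (pgoAut F ⇑Q) x y := by
  have hrF : (r : F) ≠ 0 := by
    rw [Ne, CharP.cast_eq_zero_iff F p]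
    exact fun e => hrp ((Nat.prime_dvd_prime_iff_eq Fact.out hr).1 e).symm
  have hx1 : x ≠ 1 := fun e => hr.ne_one (by rw [← hxr, e, orderOf_one])
  obtain ⟨h1, h2⟩ := covers E hx hodd hxr hrF hx1
  refine ⟨fun y => ⟨conj_iff ((inn_le_pso E).trans (psoAut_le_innDiag E)) h1 y,
    conj_iff (psoAut_le_innDiag E) (fun β hβ => ?_) y⟩, conj_iff ?_ h2⟩
  · obtain ⟨γ, a, b, c⟩ := h1 β hβ
    exact ⟨γ, a, b, inn_le_pso E c⟩
  · rw [poAut_eq, pgoAut_eq, MonoidHom.range_eq_map]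
    exact Subgroup.map_mono le_top

end Cfsg.Agent.SemisimpleOrth
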