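import Mathlib

/-!
Finite reduced commutative rings with an involution `θ`: below an idempotent `e` on which `θ` has an
invertible anti-fixed element, the norm `a ↦ a θ(a)` is onto the fixed units (Hilbert 90), and below a
`θ`-minimal idempotent the norm-one group is cyclic of even order.
-/

set_option autoImplicit false

namespace Cfsg.Agent.SemisimpleOrth

section Involution

variable {A : Type*} [CommRing A] [Finite A]

theorem isUnit_of_ann {b : A} (h : ∀ y, b * y = 0 → y = 0) : IsUnit b := by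
  obtain ⟨y, hy⟩ := (Finite.injective_iff_surjective.1
    (fun u v (e : b * u = b * v) => sub_eq_zero.1 (h _ (by rw [mul_sub, e, sub_self])))) 1
  exact isUnit_iff_exists_inv.2 ⟨y, hy⟩

/-- Some power is idempotent, and so are all its powers. -/
theorem exists_idem_pow (x : A) :
    ∃ n, 0 < n ∧ ∀ k, 0 < k → IsIdempotentElem (x ^ (n * k)) := by
  obtain ⟨i, j, hij, he⟩ : ∃ i j : ℕ, i < j ∧ x ^ i = x ^ j := by
    obtain ⟨i, j, hne, he⟩ := Finite.exists_ne_map_eq_of_infinite (fun n : ℕ => x ^ n)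
    rcases lt_or_gt_of_ne hne with h | h
    · exact ⟨i, j, h, he⟩
    · exact ⟨j, i, h, he.symm⟩
  obtain ⟨d, hd, rfl⟩ : ∃ d, 0 < d ∧ j = i + d := ⟨j - i, by omega, by omega⟩
  have hstep : ∀ n, i ≤ n → ∀ c, x ^ (n + c * d) = x ^ n := by
    intro n hn c
    induction c with
    | zero => simp
    | succ c ih =>
      obtain ⟨t, rfl⟩ := Nat.exists_eq_add_of_le hn
      rw [show i + t + (c + 1) * d = (i + d) + (t + c * d) by ring, pow_add, ← he, ← pow_add,
        show i + (t + c * d) = i + t + c * d by ring]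
      exact ih
  refine ⟨(i + 1) * d, Nat.mul_pos (Nat.succ_pos i) hd, fun k hk => ?_⟩
  have hle : i ≤ (i + 1) * d * k := by
    calc i ≤ i + 1 := Nat.le_succ i
      _ = (i + 1) * 1 * 1 := by ring
      _ ≤ _ := Nat.mul_le_mul (Nat.mul_le_mul_left _ hd) hk
  show x ^ ((i + 1) * d * k) * x ^ ((i + 1) * d * k) = _
  rw [← pow_add]
  have := hstep _ hle ((i + 1) * k)
  rwa [show (i + 1) * k * d = (i + 1) * d * k by ring] at this

omit [Finite A] in
theorem eq_zero_of_pow [IsReduced A] {x : A} {n : ℕ} (h : x ^ n = 0) : x = 0 :=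
  IsNilpotent.eq_zero ⟨n, h⟩

variable (θ : A →+* A)

/-- The units that are `1` off `e`. -/
def corner (e : A) : Subgroup Aˣ where
  carrier := {x | (x : A) * (1 - e) = 1 - e}
  one_mem' := one_mul _
  mul_mem' := fun {x y} hx hy => by
    show ((x * y : Aˣ) : A) * (1 - e) = 1 - e
    rw [Units.val_mul, mul_assoc, hy, hx]
  inv_mem' := fun {x} hx => by
    show ((x⁻¹ : Aˣ) : A) * (1 - e) = 1 - e
    calc ((x⁻¹ : Aˣ) : A) * (1 - e) = ((x⁻¹ : Aˣ) : A) * ((x : A) * (1 - e)) := by rw [hx]
      _ = 1 - e := by rw [Units.inv_mul_cancel_left]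

theorem mem_corner {e : A} {x : Aˣ} : x ∈ corner e ↔ (x : A) * (1 - e) = 1 - e := Iff.rfl

variable (hθ : ∀ x, θ (θ x) = x) [IsReduced A]
include hθ

/-- Hilbert 90 below `e`. -/
theorem exists_div_of_norm_one (h2 : IsUnit (2 : A)) {e u : A} (he : IsIdempotentElem e) (heθ : θ e = e)
    (hu : θ u = -u) (hue : ∀ y, u * y = 0 → e * y = 0) (a : Aˣ) (ha : a ∈ corner e)
    (hN : (a : A) * θ a = 1) : ∃ b : Aˣ, b ∈ corner e ∧ (a : A) * θ b = b := by
  obtain ⟨n, hn, hidem⟩ := exists_idem_pow (1 + (a : A))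
  set N := n * Nat.card Aˣ with hNdef
  set E := (1 + (a : A)) ^ N with hEdef
  have hEi : IsIdempotentElem E := hidem _ Nat.card_pos
  have haN : (a : A) ^ N = 1 := by
    rw [hNdef, mul_comm, pow_mul, ← Units.val_pow_eq_pow_val, pow_card_eq_one', Units.val_one, one_pow]
  have hθE : θ E = E := by
    have h1 : θ (1 + (a : A)) * (a : A) = 1 + (a : A) := by
      rw [map_add, map_one, add_mul, one_mul, mul_comm (θ (a : A)), hN, add_comm]
    have h2' := congrArg (· ^ N) h1
    simp only [mul_pow, haN, mul_one] at h2'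
    rwa [← map_pow] at h2'
  set c := E + (1 - E) * u
  have hcc : c + (a : A) * θ c = E * (1 + (a : A)) + (1 - E) * (u * (1 - (a : A))) := by
    simp only [c, map_add, map_mul, map_sub, map_one, hθE, hu]
    ring
  set b := e * (c + (a : A) * θ c) + (1 - e)
  have hab : (a : A) * θ b = b := by
    have h1 : (a : A) * θ b = e * ((a : A) * θ c + (a : A) * θ (a : A) * c) + (a : A) * (1 - e) := by
      simp only [b, map_add, map_mul, map_sub, map_one, heθ, hθ]
      ring
    rw [h1, hN, one_mul, ha, add_comm ((a : A) * θ c)]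
  have he' : e * e = e := he
  have hbc : b * (1 - e) = 1 - e := by
    have h1 : e * (1 - e) = 0 := by rw [mul_sub, mul_one, he', sub_self]
    calc b * (1 - e) = (c + (a : A) * θ c) * (e * (1 - e)) + (1 - e) * (1 - e) := by simp only [b]; ring
      _ = 1 - e := by rw [h1, mul_zero, zero_add, mul_sub, mul_one, sub_mul, one_mul, he', sub_self, sub_zero]
  have hb : IsUnit b := by
    refine isUnit_of_ann fun y hy => ?_
    have hy1 : (1 - e) * y = 0 := by
      calc (1 - e) * y = b * (1 - e) * y := by rw [hbc]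
        _ = (1 - e) * (b * y) := by ring
        _ = 0 := by rw [hy, mul_zero]
    have hey : e * y = y := by
      rw [sub_mul, one_mul, sub_eq_zero] at hy1
      exact hy1.symm
    have hcy : (c + (a : A) * θ c) * y = 0 := by
      calc (c + (a : A) * θ c) * y = (c + (a : A) * θ c) * (e * y) + (1 - e) * y := by
            rw [hey, sub_mul, one_mul, hey, sub_self, add_zero]
        _ = b * y := by simp only [b]; ring
        _ = 0 := hy
    rw [hcc] at hcy
    have hE1 : E * ((1 + (a : A)) * y) = 0 := by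
      calc E * ((1 + (a : A)) * y) = E * ((E * (1 + (a : A)) + (1 - E) * (u * (1 - (a : A)))) * y) +
            (E - E * E) * ((1 + (a : A)) * y - u * (1 - (a : A)) * y) := by ring
        _ = 0 := by rw [hcy, hEi.eq, sub_self, mul_zero, zero_mul, add_zero]
    have h1y : (1 + (a : A)) * y = 0 := by
      refine eq_zero_of_pow (n := N + 1) ?_
      calc ((1 + (a : A)) * y) ^ (N + 1) = E * ((1 + (a : A)) * y) * y ^ N := by
            rw [hEdef, mul_pow, pow_succ, pow_succ]; ring
        _ = 0 := by rw [hE1, zero_mul]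
    have hEy : E * y = 0 := by
      have hN0 : N ≠ 0 := Nat.mul_ne_zero hn.ne' Nat.card_pos.ne'
      obtain ⟨M, hM⟩ := Nat.exists_eq_succ_of_ne_zero hN0
      rw [hEdef, hM, pow_succ, mul_assoc, h1y, mul_zero]
    have hu1 : u * ((1 - (a : A)) * y) = 0 := by
      calc u * ((1 - (a : A)) * y) = (E * (1 + (a : A)) + (1 - E) * (u * (1 - (a : A)))) * y
            - (1 + (a : A)) * (E * y) + u * (1 - (a : A)) * (E * y) := by ring
        _ = 0 := by rw [hcy, hEy, mul_zero, mul_zero, sub_zero, add_zero]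
    have h1y' : (1 - (a : A)) * y = 0 := by
      have := hue _ hu1
      rwa [mul_left_comm, hey] at this
    refine (h2.mul_right_eq_zero).1 ?_
    calc (2 : A) * y = (1 + (a : A)) * y + (1 - (a : A)) * y := by ring
      _ = 0 := by rw [h1y, h1y', add_zero]
  exact ⟨hb.unit, hbc, hab⟩

/-- The norm below `e` is onto the fixed units. -/
theorem exists_norm_eq_of_fixed (h2 : IsUnit (2 : A)) {e u : A} (he : IsIdempotentElem e) (heθ : θ e = e)
    (hu : θ u = -u) (hue : ∀ y, u * y = 0 → e * y = 0) (z : Aˣ) (hz : z ∈ corner e)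
    (hzθ : θ (z : A) = z) : ∃ a : Aˣ, a ∈ corner e ∧ (a : A) * θ a = z := by
  let σ : Aˣ →* Aˣ := Units.map θ.toMonoidHom
  have hσK : ∀ x ∈ corner e, σ x ∈ corner e := fun x hx => by
    have := congrArg θ (mem_corner.1 hx)
    simp only [map_mul, map_sub, map_one, heθ] at this
    exact this
  let K := corner e
  let τ : K →* K :=
    { toFun := fun x => ⟨σ x, hσK x x.2⟩
      map_one' := Subtype.ext (map_one σ)
      map_mul' := fun x y => Subtype.ext (map_mul σ _ _) }
  let Nm : K →* K :=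
    { toFun := fun x => x * τ x
      map_one' := by simp
      map_mul' := fun x y => by rw [map_mul]; exact mul_mul_mul_comm _ _ _ _ }
  let D : K →* K :=
    { toFun := fun x => x / τ x
      map_one' := by simp
      map_mul' := fun x y => by rw [map_mul]; exact mul_div_mul_comm _ _ _ _ }
  have hττ : ∀ x, τ (τ x) = x := fun x => Subtype.ext (Units.ext (hθ _))
  have h1 : Nm.ker = D.range := by
    refine le_antisymm (fun x hx => ?_) ?_
    · have hN : ((x : Aˣ) : A) * θ ((x : Aˣ) : A) = 1 :=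
        congrArg (fun w : K => ((w : Aˣ) : A)) (MonoidHom.mem_ker.1 hx)
      obtain ⟨b, hb, hab⟩ := exists_div_of_norm_one θ hθ h2 he heθ hu hue x x.2 hN
      refine ⟨⟨b, hb⟩, ?_⟩
      show (⟨b, hb⟩ : K) / τ ⟨b, hb⟩ = x
      rw [div_eq_iff_eq_mul]
      exact Subtype.ext (Units.ext hab.symm)
    · rintro _ ⟨y, rfl⟩
      show y / τ y * τ (y / τ y) = 1
      rw [map_div, hττ, div_mul_div_comm, mul_comm, div_self']
  have h2' : Nm.range ≤ D.ker := by
    rintro _ ⟨y, rfl⟩
    show y * τ y / τ (y * τ y) = 1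
    rw [map_mul, hττ, mul_comm y, div_self']
  have hle : Nat.card D.ker ≤ Nat.card Nm.range := by
    have e1 := Nm.ker.card_mul_index
    have e2 := D.ker.card_mul_index
    rw [Subgroup.index_ker, h1] at e1
    rw [Subgroup.index_ker, mul_comm] at e2
    exact (Nat.eq_of_mul_eq_mul_left Nat.card_pos (e2.trans e1.symm)).le
  have hmem : (⟨z, hz⟩ : K) ∈ D.ker := by
    show (⟨z, hz⟩ : K) / τ ⟨z, hz⟩ = 1
    rw [div_eq_one]
    exact Subtype.ext (Units.ext hzθ.symm)
  rw [← Subgroup.eq_of_le_of_card_ge h2' hle] at hmem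
  obtain ⟨a, ha⟩ := hmem
  exact ⟨a, a.2, congrArg (fun w : K => ((w : Aˣ) : A)) ha⟩

end Involution

section Minimal

variable {A : Type*} [CommRing A] (θ : A →+* A)

/-- A `θ`-fixed idempotent with no proper one below it. -/
def ThetaMinimal (e : A) : Prop :=
  IsIdempotentElem e ∧ θ e = e ∧ e ≠ 0 ∧
    ∀ f, IsIdempotentElem f → θ f = f → f * e = f → f = 0 ∨ f = e

theorem exists_thetaMinimal [Finite A] {e₀ : A} (he : IsIdempotentElem e₀) (heθ : θ e₀ = e₀) (h0 : e₀ ≠ 0) :
    ∃ e, ThetaMinimal θ e ∧ e * e₀ = e := by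
  classical
  have := Fintype.ofFinite A
  let S : Finset A := Finset.univ.filter fun f => IsIdempotentElem f ∧ θ f = f ∧ f ≠ 0 ∧ f * e₀ = f
  let size : A → ℕ := fun f => (Finset.univ.filter fun x : A => x * f = x).card
  obtain ⟨e, heS, hmin⟩ := S.exists_min_image size ⟨e₀, by simp [S, he, heθ, h0, he.eq]⟩
  simp only [S, Finset.mem_filter, Finset.mem_univ, true_and] at heS
  obtain ⟨h1, h2, h3, h4⟩ := heS
  refine ⟨e, ⟨h1, h2, h3, fun f hf hfθ hfe => ?_⟩, h4⟩
  by_cases hf0 : f = 0
  · exact Or.inl hf0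
  refine Or.inr ?_
  by_contra hne
  have hsub : (Finset.univ.filter fun x : A => x * f = x) ⊂ Finset.univ.filter fun x : A => x * e = x := by
    refine Finset.ssubset_iff_of_subset (fun x hx => ?_) |>.2 ⟨e, ?_, ?_⟩
    · simp only [Finset.mem_filter, Finset.mem_univ, true_and] at hx ⊢
      rw [← hx, mul_assoc, hfe]
    · simp [h1.eq]
    · simp only [Finset.mem_filter, Finset.mem_univ, true_and]
      rwa [mul_comm, hfe]
  have := hmin f (by simp [S, hf, hfθ, hf0, show f * e₀ = f by rw [← hfe, mul_assoc, h4]])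
  exact absurd (Finset.card_lt_card hsub) (not_lt.2 this)

variable {θ} [Finite A] [IsReduced A]

theorem ThetaMinimal.exists_inv {e : A} (h : ThetaMinimal θ e) {z : A} (hz : θ z = z) (hze : z * e = z)
    (hz0 : z ≠ 0) : ∃ w, z * w = e := by
  obtain ⟨n, hn, hidem⟩ := exists_idem_pow z
  have hi := hidem 1 one_pos
  rw [mul_one] at hi
  obtain ⟨M, rfl⟩ := Nat.exists_eq_succ_of_ne_zero hn.ne'
  refine ⟨z ^ M, ?_⟩
  rw [← pow_succ']
  refine (h.2.2.2 _ hi (by rw [map_pow, hz]) ?_).resolve_left fun e0 => hz0 (eq_zero_of_pow e0)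
  rw [pow_succ, mul_assoc, hze]

theorem ThetaMinimal.eq_zero_of_norm_one_sub {e : A} (h : ThetaMinimal θ e) {a y : A} (hN : a * θ a = 1)
    (ha : a * (1 - e) = 1 - e) (hy : y * e = y) (hay : (a - 1) * y = 0) : y = 0 ∨ a = 1 := by
  set d := a - 1 with hd
  have hde : d * e = d := by
    calc d * e = d - (a * (1 - e) - (1 - e)) := by rw [hd]; ring
      _ = d := by rw [ha]; ring
  have hθd : θ d * a = -d := by
    rw [hd, map_sub, map_one, sub_mul, one_mul, mul_comm (θ a), hN]; ring
  by_cases hz0 : d * θ d = 0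
  · refine Or.inr (sub_eq_zero.1 (eq_zero_of_pow (n := 2) ?_))
    calc d ^ 2 = -(d * (θ d * a)) := by rw [hθd]; ring
      _ = 0 := by rw [← mul_assoc, hz0, zero_mul, neg_zero]
  · refine Or.inl ?_
    have hzθ : θ (d * θ d) = d * θ d := by
      have h1 : θ (θ d) = d := by
        have h2 := congrArg θ hθd
        rw [map_mul, map_neg] at h2
        calc θ (θ d) = θ (θ d) * (θ a * a) := by rw [mul_comm (θ a), hN, mul_one]
          _ = -(θ d * a) := by rw [← mul_assoc, h2, neg_mul]
          _ = d := by rw [hθd, neg_neg]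
      rw [map_mul, h1, mul_comm]
    obtain ⟨w, hw⟩ := h.exists_inv hzθ (by rw [mul_right_comm, hde]) hz0
    rw [← hy, ← hw, show y * (d * θ d * w) = (d * y) * (θ d * w) by ring, hay, zero_mul]

/-- The norm-one group below a minimal idempotent. -/
def normOne (θ : A →+* A) (e : A) : Subgroup Aˣ :=
  corner e ⊓
    { carrier := {x | (x : A) * θ x = 1}
      one_mem' := by simp
      mul_mem' := fun {x y} (hx : (x : A) * θ x = 1) (hy : (y : A) * θ y = 1) => by
        show ((x * y : Aˣ) : A) * θ ((x * y : Aˣ) : A) = 1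
        rw [Units.val_mul, map_mul, mul_mul_mul_comm, hx, hy, one_mul]
      inv_mem' := fun {x} (hx : (x : A) * θ x = 1) => by
        show ((x⁻¹ : Aˣ) : A) * θ ((x⁻¹ : Aˣ) : A) = 1
        have h1 : θ ((x⁻¹ : Aˣ) : A) = x := by
          calc θ ((x⁻¹ : Aˣ) : A) = ((x : A) * θ x) * θ ((x⁻¹ : Aˣ) : A) := by rw [hx, one_mul]
            _ = x := by rw [mul_assoc, ← map_mul, Units.mul_inv, map_one, mul_one]
        rw [h1, Units.inv_mul] }

theorem mem_normOne {e : A} {x : Aˣ} :
    x ∈ normOne θ e ↔ (x : A) * (1 - e) = 1 - e ∧ (x : A) * θ x = 1 := Iff.rfl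

theorem ThetaMinimal.isCyclic_normOne {e : A} (h : ThetaMinimal θ e) : IsCyclic (normOne θ e) := by
  obtain ⟨P, hP, hPe⟩ : ∃ P : Ideal A, P.IsPrime ∧ e ∉ P := by
    by_contra hc
    push Not at hc
    refine h.2.2.1 (IsReduced.eq_zero e ?_)
    exact nilpotent_iff_mem_prime.2 hc
  have := hP
  let f : normOne θ e →* A ⧸ P := ((Ideal.Quotient.mk P).toMonoidHom.comp (Units.coeHom A)).comp
    (normOne θ e).subtype
  refine isCyclic_of_injective_ringHom f ?_
  rintro ⟨x, hx⟩ ⟨y, hy⟩ hxy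
  have hxy' : ((x : A) - (y : A)) ∈ P := (Ideal.Quotient.eq).1 hxy
  obtain ⟨hxc, hxN⟩ := mem_normOne.1 (mul_mem hx (inv_mem hy))
  set a := ((x * y⁻¹ : Aˣ) : A) with hadef
  have haP : a - 1 ∈ P := by
    have e1 : a - 1 = ((x : A) - (y : A)) * ((y⁻¹ : Aˣ) : A) := by
      rw [hadef, sub_mul, Units.mul_inv, Units.val_mul]
    rw [e1]
    exact P.mul_mem_right _ hxy'
  have ha1 : a = 1 := by
    by_contra ha1
    obtain ⟨w, hw⟩ : ∃ w, (a - 1) * θ (a - 1) * w = e := by
      have hde : (a - 1) * e = a - 1 := by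
        calc (a - 1) * e = (a - 1) - (a * (1 - e) - (1 - e)) := by ring
          _ = a - 1 := by rw [hxc]; ring
      have hθd : θ (a - 1) * a = -(a - 1) := by
        rw [map_sub, map_one, sub_mul, one_mul, mul_comm (θ a), hxN]; ring
      refine h.exists_inv ?_ (by rw [mul_right_comm, hde]) fun hz0 => ha1 (sub_eq_zero.1 (eq_zero_of_pow (n := 2) ?_))
      · have h1 : θ (θ (a - 1)) = a - 1 := by
          have h2 := congrArg θ hθd
          rw [map_mul, map_neg] at h2
          calc θ (θ (a - 1)) = θ (θ (a - 1)) * (θ a * a) := by rw [mul_comm (θ a), hxN, mul_one]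
            _ = -(θ (a - 1) * a) := by rw [← mul_assoc, h2, neg_mul]
            _ = a - 1 := by rw [hθd, neg_neg]
        rw [map_mul, h1, mul_comm]
      · calc (a - 1) ^ 2 = -((a - 1) * (θ (a - 1) * a)) := by rw [hθd]; ring
          _ = 0 := by rw [← mul_assoc, hz0, zero_mul, neg_zero]
    exact hPe (hw ▸ P.mul_mem_right _ (P.mul_mem_right _ haP))
  exact Subtype.ext (mul_inv_eq_one.1 (Units.ext ha1))

theorem ThetaMinimal.even_card_normOne (h2 : IsUnit (2 : A)) {e : A} (h : ThetaMinimal θ e) :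
    2 ∣ Nat.card (normOne θ e) := by
  obtain ⟨he, heθ, he0, -⟩ := h
  have hsq : (1 - 2 * e) * (1 - 2 * e) = 1 := by
    calc (1 - 2 * e) * (1 - 2 * e) = 1 - 4 * e + 4 * (e * e) := by ring
      _ = 1 := by rw [he.eq]; ring
  let w : Aˣ := ⟨1 - 2 * e, 1 - 2 * e, hsq, hsq⟩
  have hw : w ∈ normOne θ e := by
    refine mem_normOne.2 ⟨?_, ?_⟩
    · show (1 - 2 * e) * (1 - e) = 1 - e
      calc (1 - 2 * e) * (1 - e) = 1 - e - 2 * (e - e * e) := by ring
        _ = 1 - e := by rw [he.eq]; ring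
    · show (1 - 2 * e) * θ (1 - 2 * e) = 1
      rw [map_sub, map_mul, map_one, map_ofNat, heθ, hsq]
  have hw2 : orderOf (⟨w, hw⟩ : normOne θ e) = 2 := by
    rw [Subgroup.orderOf_mk]
    refine orderOf_eq_prime (Units.ext (by rw [pow_two]; exact hsq)) fun e1 => he0 ?_
    have h1 : (1 : A) - 2 * e = 1 := congrArg Units.val e1
    exact h2.mul_right_eq_zero.1 (sub_eq_self.1 h1)
  exact hw2 ▸ orderOf_dvd_natCard _

end Minimal

end Cfsg.Agent.SemisimpleOrth
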