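import Cfsg.Agent.Lib.SemisimpleOrth.Adjoint
import Cfsg.Agent.Lib.GraphAut.Det
import Cfsg.Agent.Lib.QForm.Diag
import Cfsg.Agent.Lib.ClassicalSimple.GraphSplit

/-!
A semisimple isometry of odd exponent commutes with a similarity of any non-square multiplier and sign `1`.
-/

set_option autoImplicit false

namespace Cfsg.Agent.SemisimpleOrth

open scoped Matrix
open ClassicalSimple

variable {F : Type*} [Field F] {ι : Type} [Fintype ι] [DecidableEq ι] {Q : QuadraticForm F (ι → F)}

/-- A similitude of an invertible alternating matrix has determinant `μ^(n/2)`. -/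
theorem det_of_alt {N X : Matrix ι ι F} {μ : F} (hμ : μ ≠ 0) (hdet : N.det ≠ 0)
    (halt : ∀ v, v ⬝ᵥ (N *ᵥ v) = 0) (hX : Xᵀ * N * X = μ • N) :
    ∃ k, Fintype.card ι = 2 * k ∧ X.det = μ ^ k := by
  obtain ⟨k, hk, P, R, c, hPR, hRP, hP⟩ := GraphAut.alt_matSim N hdet halt
  refine ⟨k, hk, ?_⟩
  have hRN : (c : F) • (Rᵀ * Matrix.J (Fin k) F * R) = N := by
    calc (c : F) • (Rᵀ * Matrix.J (Fin k) F * R) = Rᵀ * (Pᵀ * N * P) * R := by
          rw [hP, Matrix.mul_smul, Matrix.smul_mul]
      _ = (P * R)ᵀ * N * (P * R) := by rw [Matrix.transpose_mul]; simp only [Matrix.mul_assoc]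
      _ = N := by rw [hPR, Matrix.transpose_one, one_mul, mul_one]
  set b := R * X * P with hb
  have hbJ : bᵀ * Matrix.J (Fin k) F * b = μ • Matrix.J (Fin k) F := by
    refine smul_right_injective _ c.ne_zero ?_
    show (c : F) • (bᵀ * Matrix.J (Fin k) F * b) = (c : F) • μ • Matrix.J (Fin k) F
    calc (c : F) • (bᵀ * Matrix.J (Fin k) F * b)
        = Pᵀ * (Xᵀ * ((c : F) • (Rᵀ * Matrix.J (Fin k) F * R)) * X) * P := by
          simp only [hb, Matrix.transpose_mul, Matrix.mul_smul, Matrix.smul_mul, Matrix.mul_assoc]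
      _ = _ := by rw [hRN, hX, Matrix.mul_smul, Matrix.smul_mul, hP, smul_comm]
  let S := GraphAut.symSim (F := F) k (Units.mk0 μ hμ)
  have hS := GraphAut.symSim_spec (F := F) k (Units.mk0 μ hμ)
  have hsymp : (S⁻¹).val * b ∈ Matrix.symplecticGroup (Fin k) F := by
    refine SymplecticGroup.mem_iff'.2 (smul_right_injective _ hμ ?_)
    show μ • (((S⁻¹).val * b)ᵀ * Matrix.J (Fin k) F * ((S⁻¹).val * b)) = μ • Matrix.J (Fin k) F
    calc μ • (((S⁻¹).val * b)ᵀ * Matrix.J (Fin k) F * ((S⁻¹).val * b))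
        = ((S⁻¹).val * b)ᵀ * ((Units.mk0 μ hμ : F) • Matrix.J (Fin k) F) * ((S⁻¹).val * b) := by
          rw [Units.val_mk0, Matrix.mul_smul, Matrix.smul_mul]
      _ = (S.val * ((S⁻¹).val * b))ᵀ * Matrix.J (Fin k) F * (S.val * ((S⁻¹).val * b)) := by
          rw [← hS]; simp only [S, Matrix.transpose_mul, Matrix.mul_assoc]
      _ = _ := by rw [Units.mul_inv_cancel_left, hbJ]
  have h1 := SymplecticGroup.det_eq_one hsymp
  have hSdet : S.val.det = μ ^ k := by
    have := congrArg Units.val (GraphAut.symSim_det (F := F) k (Units.mk0 μ hμ))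
    simpa [Matrix.GeneralLinearGroup.val_det_apply] using this
  have hbdet : b.det = μ ^ k := by
    have : b = S.val * ((S⁻¹).val * b) := (Units.mul_inv_cancel_left S b).symm
    rw [this, Matrix.det_mul, h1, mul_one, hSdet]
  rw [← hbdet, hb, Matrix.det_conj_of_mul_eq_one hRP hPR]

variable [Fintype F] {k : ℕ}

/-- A similarity of `Q` as an element of `GO Q`. -/
theorem exists_GO_of_quad (E : EvenForm Q k) (X : Matrix ι ι F) {μ : F} (hμ : μ ≠ 0)
    (hX : ∀ v, Q (X *ᵥ v) = μ * Q v) : ∃ s : GO Q, s.1.val = X ∧ (mult s : F) = μ := by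
  have hdet : X.det ≠ 0 := by
    intro h0
    obtain ⟨v, hv0, hv⟩ := Matrix.exists_mulVec_eq_zero_iff.2 h0
    refine hv0 (E.nondeg.1 v fun w => ?_)
    rw [QuadraticMap.polarBilin_apply_apply]
    refine mul_left_cancel₀ hμ ?_
    rw [mul_zero]
    calc μ * QuadraticMap.polar ⇑Q v w = QuadraticMap.polar ⇑Q (X *ᵥ v) (X *ᵥ w) := by
          simp only [QuadraticMap.polar, ← Matrix.mulVec_add, hX]; ring
      _ = 0 := by rw [hv, QuadraticMap.polar_zero_left]
  refine ⟨⟨Matrix.GeneralLinearGroup.mkOfDetNeZero X hdet, Units.mk0 μ hμ, fun v => hX v⟩, rfl,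
    mult_eq E _ μ fun v => hX v⟩

variable {M : Matrix ι ι F} {r : ℕ}

theorem det_idem_smul {V : Type*} [AddCommGroup V] [Module F V] [FiniteDimensional F V] (f : V →ₗ[F] V)
    (hf : f * f = f) (c : F) :
    LinearMap.det (c • f + (1 - f)) = c ^ Module.finrank F (LinearMap.range f) := by
  have hc : IsCompl (LinearMap.range f) (LinearMap.ker f) :=
    (LinearMap.IsProj.mk (fun x => LinearMap.mem_range_self f x) (by
      rintro x ⟨y, rfl⟩; exact congrArg (fun g : V →ₗ[F] V => g y) hf)).isCompl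
  let e := Submodule.prodEquivOfIsCompl _ _ hc
  have heq : c • f + (1 - f) =
      (e.toLinearMap ∘ₗ (LinearMap.prodMap (c • LinearMap.id) LinearMap.id)) ∘ₗ e.symm.toLinearMap := by
    refine LinearMap.ext fun v => ?_
    obtain ⟨⟨⟨a, ⟨a', ha⟩⟩, ⟨b, hb⟩⟩, rfl⟩ := e.surjective v
    have hfa : f a = a := by rw [← ha]; exact congrArg (fun g : V →ₗ[F] V => g a') hf
    have hfb : f b = 0 := LinearMap.mem_ker.1 hb
    simp only [LinearMap.comp_apply, LinearEquiv.coe_coe, LinearEquiv.symm_apply_apply]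
    simp [e, hfa, hfb, map_add, smul_add]
  rw [heq, LinearMap.comp_assoc, LinearMap.det_conj, LinearMap.det_prodMap, LinearMap.det_smul, LinearMap.det_id,
    mul_one, LinearMap.det_id, mul_one]

/-- On the fixed space of `M` there is a similarity of a given multiplier, if that space is of even dimension. -/
theorem exists_fixed_sim (h : OddSS Q M r) {e : algebraOf M} (he : IsIdempotentElem e) (heθ : h.theta e = e)
    {μ : F} (hμ : μ ≠ 0)
    (heven : Even (Module.finrank F (LinearMap.range ((1 - e : algebraOf M) : Matrix ι ι F).toLin'))) :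
    ∃ S : Matrix ι ι F, (∀ v, ((1 - e : algebraOf M) : Matrix ι ι F) *ᵥ (S *ᵥ v) = S *ᵥ v) ∧
      S * ((1 - e : algebraOf M) : Matrix ι ι F) = S ∧
      ∀ v, Q (S *ᵥ v) = μ * Q (((1 - e : algebraOf M) : Matrix ι ι F) *ᵥ v) := by
  classical
  set f : algebraOf M := 1 - e with hf
  have hfi : IsIdempotentElem f := he.one_sub
  have hfθ : h.theta f = f := by rw [hf, map_sub, map_one, heθ]
  set P : Matrix ι ι F := (f : Matrix ι ι F)
  have hPP : P * P = P := congrArg Subtype.val hfi.eq
  set W := LinearMap.range P.toLin'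
  have hPW : ∀ x : W, P *ᵥ (x : ι → F) = x := by
    rintro ⟨_, y, rfl⟩
    simp [Matrix.toLin'_apply, Matrix.mulVec_mulVec, hPP]
  let Q₁ : QuadraticForm F W := Q.comp W.subtype
  have hQ₁ : (QuadraticMap.polarBilin Q₁).Nondegenerate := by
    rw [QuadraticMap.polarBilin_comp]
    refine (LinearMap.IsRefl.nondegenerate_iff_separatingLeft ?_).2 fun x hx => ?_
    · intro a b hab
      simp only [LinearMap.compl₁₂_apply, QuadraticMap.polarBilin_apply_apply] at hab ⊢
      rwa [QuadraticMap.polar_comm]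
    · refine Subtype.ext (h.nondeg.1 _ fun v => ?_)
      have h1 : QuadraticMap.polar ⇑Q (x : ι → F) (P *ᵥ v) = 0 := by
        simpa [Matrix.toLin'_apply] using hx ⟨P *ᵥ v, v, rfl⟩
      rw [QuadraticMap.polarBilin_apply_apply, ← hPW x, polar_adj h.nondeg,
        show adj Q P = P from congrArg Subtype.val hfθ]
      exact h1
  let b := Module.finBasis F W
  obtain ⟨g, hg⟩ := (QForm.isometric_iff h.two (μ • Q₁) Q₁ (by
      refine (LinearMap.BilinForm.nondegenerate_iff_ker_eq_bot).2 ?_
      refine (Submodule.eq_bot_iff _).2 fun x hx => hQ₁.1 x fun y => ?_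
      have := congrArg (fun φ => φ y) (LinearMap.mem_ker.1 hx)
      simp only [QuadraticMap.polarBilin_apply_apply, LinearMap.zero_apply, QuadraticMap.polar,
        QuadraticMap.smul_apply, smul_eq_mul] at this ⊢
      exact mul_left_cancel₀ hμ (by linear_combination this)) hQ₁ b b).2 (by
    have := QForm.det_gram_similarity (μ • Q₁) Q₁ (LinearEquiv.refl F W) μ (fun w => rfl) b
    rw [show b.map (LinearEquiv.refl F W) = b from Module.Basis.eq_of_apply_eq fun i => rfl] at this
    rw [this, Fintype.card_fin]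
    obtain ⟨j, hj⟩ := heven
    have hjj : μ ^ Module.finrank F W = μ ^ j * μ ^ j := (congrArg (μ ^ ·) hj).trans (pow_add μ j j)
    exact ⟨μ ^ j * (QForm.gram ⇑Q₁ ⇑b).det,
      by linear_combination ((QForm.gram ⇑Q₁ ⇑b).det * (QForm.gram ⇑Q₁ ⇑b).det) * hjj⟩)
  refine ⟨LinearMap.toMatrix' ((W.subtype ∘ₗ g.toLinearMap) ∘ₗ P.toLin'.rangeRestrict), fun v => ?_, ?_, fun v => ?_⟩
  · rw [← Matrix.toLin'_apply (LinearMap.toMatrix' _), Matrix.toLin'_toMatrix']
    exact hPW _
  · refine Matrix.toLin'.injective (LinearMap.ext fun v => ?_)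
    simp only [Matrix.toLin'_mul, Matrix.toLin'_toMatrix', LinearMap.comp_apply]
    congr 2
    exact Subtype.ext (by simp [Matrix.toLin'_apply, Matrix.mulVec_mulVec, hPP])
  · rw [← Matrix.toLin'_apply (LinearMap.toMatrix' _), Matrix.toLin'_toMatrix']
    exact hg (P.toLin'.rangeRestrict v)

/-- The commuting similarity. -/
theorem exists_sim_commute (E : EvenForm Q k) (g : GO Q) (h : OddSS Q g.1.val r) {μ : F} (hμ : μ ≠ 0)
    (hns : ¬ IsSquare μ) : ∃ s : GO Q, Commute s g ∧ (mult s : F) = μ ∧ dsign k s = 1 := by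
  classical
  have := h.isReduced
  set M := g.1.val with hM
  obtain ⟨e, u, he, heθ, hu, hue, hfix⟩ := h.exists_support
  set f : algebraOf M := 1 - e with hf
  have hz : IsUnit (μ • e + f) := by
    refine IsUnit.of_mul_eq_one (μ⁻¹ • e + f) ?_
    simp only [Algebra.smul_def, hf]
    calc (algebraMap F _ μ * e + (1 - e)) * (algebraMap F _ μ⁻¹ * e + (1 - e))
        = algebraMap F _ μ * algebraMap F _ μ⁻¹ * (e * e)
          + (algebraMap F _ μ + algebraMap F _ μ⁻¹) * (e - e * e) + (1 - e) * (1 - e) := by ring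
      _ = 1 := by
        rw [← map_mul, mul_inv_cancel₀ hμ, map_one, one_mul, he.one_sub.eq, he.eq, sub_self, mul_zero,
          add_zero, add_sub_cancel]
  obtain ⟨a, ha, haN⟩ := exists_norm_eq_of_fixed h.theta h.theta_theta h.isUnit_two he heθ hu hue hz.unit
    (by
      show (μ • e + f) * f = f
      rw [hf, add_mul, smul_mul_assoc, mul_sub, mul_one, he.eq, sub_self, smul_zero, zero_add,
        he.one_sub.eq])
    (by
      show h.theta (μ • e + f) = μ • e + f
      rw [map_add, h.theta_smul, heθ, hf, map_sub, map_one, heθ])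
  have haN' : (a : algebraOf M) * h.theta (a : algebraOf M) = μ • e + f := haN
  set X₀ : Matrix ι ι F := ((a : algebraOf M) : Matrix ι ι F)
  set Pe : Matrix ι ι F := (e : Matrix ι ι F)
  set Pf : Matrix ι ι F := (f : Matrix ι ι F)
  have hadj : adj Q X₀ * X₀ = μ • Pe + Pf := by
    have := congrArg Subtype.val haN'
    rw [mul_comm] at this
    exact this
  have hfe : Pf = 1 - Pe := rfl
  have hee : Pe * Pe = Pe := congrArg Subtype.val he.eq
  have heven : Even (Module.finrank F (LinearMap.range Pe.toLin')) := by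
    have h1 : (adj Q X₀ * X₀).det = X₀.det ^ 2 := by
      rw [Matrix.det_mul, adj, Matrix.det_mul, Matrix.det_mul, Matrix.det_transpose, Matrix.det_nonsing_inv,
        Ring.inverse_eq_inv', mul_comm (gramM Q).det⁻¹, mul_assoc X₀.det,
        inv_mul_cancel₀ (det_gramM E.nondeg).ne_zero, mul_one, pow_two]
    have h2 : LinearMap.det (μ • Pe.toLin' + (1 - Pe.toLin')) = (adj Q X₀ * X₀).det := by
      rw [hadj, hfe, ← LinearMap.det_toLin']
      refine congrArg (fun φ => LinearMap.det φ) ?_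
      rw [map_add, map_smul, map_sub, Matrix.toLin'_one]
      rfl
    rw [det_idem_smul _ (by rw [Module.End.mul_eq_comp, ← Matrix.toLin'_mul, hee]) μ, h1] at h2
    by_contra hodd
    obtain ⟨j, hj⟩ := Nat.not_even_iff_odd.1 hodd
    rw [hj] at h2
    refine hns ⟨X₀.det / μ ^ j, ?_⟩
    field_simp
    linear_combination h2
  have hkerdim : Module.finrank F (LinearMap.range Pe.toLin') + Module.finrank F (LinearMap.range Pf.toLin') = 2 * k := by
    have hker : LinearMap.ker Pe.toLin' = LinearMap.range Pf.toLin' := by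
      ext v
      simp only [LinearMap.mem_ker, LinearMap.mem_range, Matrix.toLin'_apply, hfe, Matrix.sub_mulVec,
        Matrix.one_mulVec]
      exact ⟨fun hv => ⟨v, by rw [hv, sub_zero]⟩,
        fun ⟨w, hw⟩ => by rw [← hw, Matrix.mulVec_sub, Matrix.mulVec_mulVec, hee, sub_self]⟩
    rw [← hker, LinearMap.finrank_range_add_finrank_ker, Module.finrank_fintype_fun_eq_card, E.card]
  by_cases hf0 : f = 0
  · -- no fixed vectors
    have he1 : e = 1 := (sub_eq_zero.1 hf0).symm
    have hX : adj Q X₀ * X₀ = μ • 1 := by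
      rw [hadj, show Pf = 0 from congrArg Subtype.val hf0, show Pe = 1 from congrArg Subtype.val he1, add_zero]
    obtain ⟨s, hs, hsm⟩ := exists_GO_of_quad E X₀ hμ (quad_of_adj E.nondeg E.two hX)
    have hc : Commute X₀ M := commute_of_mem (a : algebraOf M).2
    refine ⟨s, Subtype.ext (Units.ext ?_), hsm, dsign_eq_of_det E s hsm ?_⟩
    · show s.1.val * g.1.val = g.1.val * s.1.val
      rw [hs]; exact hc
    rw [hs, one_mul]
    -- the alternating form of `u`
    have huu : IsUnit u := isUnit_of_ann fun y hy => by simpa [he1] using hue y hy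
    set U : Matrix ι ι F := (u : Matrix ι ι F)
    have hUdet : (Uᵀ * gramM Q).det ≠ 0 := by
      rw [Matrix.det_mul, Matrix.det_transpose]
      refine mul_ne_zero ?_ (det_gramM E.nondeg).ne_zero
      obtain ⟨w, hw⟩ := isUnit_iff_exists_inv.1 huu
      exact left_ne_zero_of_mul_eq_one (b := (w : Matrix ι ι F).det)
        (by rw [← Matrix.det_mul, show U * (w : Matrix ι ι F) = 1 from congrArg Subtype.val hw, Matrix.det_one])
    have halt : ∀ v, v ⬝ᵥ ((Uᵀ * gramM Q) *ᵥ v) = 0 := by
      intro v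
      have e1 : v ⬝ᵥ ((Uᵀ * gramM Q) *ᵥ v) = QuadraticMap.polar ⇑Q (U *ᵥ v) v := by
        rw [polar_eq, ← Matrix.mulVec_mulVec, Matrix.dotProduct_mulVec, Matrix.vecMul_transpose]
      have e2 := polar_adj E.nondeg U v v
      rw [show adj Q U = -U from congrArg Subtype.val hu, Matrix.neg_mulVec, QuadraticMap.polar_neg_right,
        QuadraticMap.polar_comm ⇑Q v] at e2
      rw [e1]
      exact mul_left_cancel₀ h.two (by linear_combination e2)
    have hsim : X₀ᵀ * (Uᵀ * gramM Q) * X₀ = μ • (Uᵀ * gramM Q) := by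
      have hUX : X₀ᵀ * Uᵀ = Uᵀ * X₀ᵀ := by
        rw [← Matrix.transpose_mul, ← Matrix.transpose_mul]
        exact congrArg (fun y : algebraOf M => (y : Matrix ι ι F)ᵀ) (mul_comm u (a : algebraOf M))
      have hG : X₀ᵀ * gramM Q * X₀ = μ • gramM Q := by
        calc X₀ᵀ * gramM Q * X₀ = gramM Q * (adj Q X₀ * X₀) := by
              simp only [adj, Matrix.mul_assoc, Matrix.mul_nonsing_inv_cancel_left _ _ (det_gramM E.nondeg)]
          _ = μ • gramM Q := by rw [hX, Matrix.mul_smul, mul_one]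
      rw [← Matrix.mul_assoc, hUX, Matrix.mul_assoc, Matrix.mul_assoc, ← Matrix.mul_assoc X₀ᵀ, hG,
        Matrix.mul_smul]
    obtain ⟨k', hk', hd⟩ := det_of_alt hμ hUdet halt hsim
    rw [hd, show k' = k by rw [E.card] at hk'; omega]
  · -- fixed vectors
    have hevenf : Even (Module.finrank F (LinearMap.range Pf.toLin')) := by
      obtain ⟨j, hj⟩ := heven
      exact ⟨k - j, by omega⟩
    obtain ⟨S, hS1, hS2, hS3⟩ := exists_fixed_sim h he heθ hμ hevenf
    set X := X₀ * Pe + S with hXdef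
    have hef : adj Q Pe * Pf = 0 := by
      rw [show adj Q Pe = Pe from congrArg Subtype.val heθ, hfe, mul_sub, mul_one, hee, sub_self]
    have horth : ∀ v w, QuadraticMap.polar ⇑Q (Pe *ᵥ v) (Pf *ᵥ w) = 0 := fun v w => by
      rw [polar_adj E.nondeg, Matrix.mulVec_mulVec, hef, Matrix.zero_mulVec, QuadraticMap.polar_zero_right]
    have hXe : X₀ * Pe = Pe * X₀ := congrArg Subtype.val (mul_comm (a : algebraOf M) e)
    have hQX : ∀ v, Q (X *ᵥ v) = μ * Q v := by
      intro v
      have hsum : ∀ w w', Q (Pe *ᵥ w + Pf *ᵥ w') = Q (Pe *ᵥ w) + Q (Pf *ᵥ w') := fun w w' => by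
        rw [← add_eq_left (a := Q (Pe *ᵥ w) + Q (Pf *ᵥ w')) (b := QuadraticMap.polar ⇑Q (Pe *ᵥ w) (Pf *ᵥ w'))
          |>.2 (horth w w'), QuadraticMap.polar]
        ring
      have hsplit : v = Pe *ᵥ v + Pf *ᵥ v := by rw [← Matrix.add_mulVec, hfe, add_sub_cancel, Matrix.one_mulVec]
      have hXv : X *ᵥ v = Pe *ᵥ (X₀ *ᵥ v) + Pf *ᵥ (S *ᵥ v) := by
        rw [hXdef, Matrix.add_mulVec, hXe, ← Matrix.mulVec_mulVec]
        congr 1
        exact (hS1 v).symm
      have hPe : Q (X₀ *ᵥ (Pe *ᵥ v)) = μ * Q (Pe *ᵥ v) := by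
        refine mul_left_cancel₀ h.two ?_
        rw [← polar_self', polar_adj E.nondeg, Matrix.mulVec_mulVec (N := Pe) (M := X₀), Matrix.mulVec_mulVec, ← Matrix.mul_assoc, hadj, add_mul,
          smul_mul_assoc, hee, show Pf * Pe = 0 by rw [hfe, sub_mul, one_mul, hee, sub_self], add_zero,
          Matrix.smul_mulVec, QuadraticMap.polar_smul_right, polar_self', smul_eq_mul]
        ring
      rw [hXv, hsum]
      conv_rhs => rw [hsplit, hsum, mul_add]
      rw [Matrix.mulVec_mulVec, ← hXe, ← Matrix.mulVec_mulVec, hPe, hS1 v, hS3]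
    obtain ⟨s, hs, hsm⟩ := exists_GO_of_quad E X hμ hQX
    have hMf : M * Pf = Pf := Matrix.ext_of_mulVec_single fun i => by
      rw [← Matrix.mulVec_mulVec]
      exact hfix _ (by rw [Matrix.mulVec_mulVec]; exact congrArg (· *ᵥ _) (congrArg Subtype.val he.one_sub.eq))
    have hfM : Pf * M = Pf := (commute_of_mem f.2).eq.trans hMf
    have hcS : Commute S M := by
      show S * M = M * S
      calc S * M = S * Pf * M := by rw [hS2]
        _ = S := by rw [Matrix.mul_assoc, hfM, hS2]
        _ = M * S := by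
          refine Matrix.ext_of_mulVec_single fun i => ?_
          rw [← Matrix.mulVec_mulVec, hfix _ (hS1 _)]
    have hcX : Commute s g := Subtype.ext (Units.ext (by
      show s.1.val * g.1.val = g.1.val * s.1.val
      rw [hs]
      exact ((commute_of_mem (a : algebraOf M).2).mul_left (commute_of_mem e.2)).add_left hcS))
    rcases dsign_pm E s with hd | hd
    · exact ⟨s, hcX, hsm, hd⟩
    -- correct the sign by a reflection fixing the moving part
    obtain ⟨v, hv, hvf⟩ : ∃ v, Q v ≠ 0 ∧ Pf *ᵥ v = v := by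
      by_contra! hc
      have hPff : Pf * Pf = Pf := congrArg Subtype.val he.one_sub.eq
      have hQ0 : ∀ w, Q (Pf *ᵥ w) = 0 := fun w => by
        by_contra hne
        exact hc _ hne (by rw [Matrix.mulVec_mulVec, hPff])
      refine hf0 (Subtype.ext (Matrix.ext_of_mulVec_single fun i => ?_))
      rw [ZeroMemClass.coe_zero, Matrix.zero_mulVec]
      refine E.nondeg.1 _ fun w => ?_
      show QuadraticMap.polar ⇑Q (Pf *ᵥ Pi.single i 1) w = 0
      rw [← hPff, ← Matrix.mulVec_mulVec, polar_adj E.nondeg,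
        show adj Q Pf = Pf from congrArg Subtype.val (show h.theta f = f by rw [hf, map_sub, map_one, heθ]),
        QuadraticMap.polar, ← Matrix.mulVec_add, hQ0, hQ0, hQ0, sub_zero, sub_zero]
    have hgv : M *ᵥ v = v := hfix v hvf
    obtain ⟨hv', hconj⟩ := conj_reflGO g v hv
    have hcr : Commute (reflGO v hv) g := by
      have e1 : reflGO (g.1.val *ᵥ v) hv' = reflGO v hv := reflGO_congr hv hv' (c := 1) (by rw [one_smul, ← hM]; exact hgv)
      rw [e1] at hconj
      exact (mul_inv_eq_iff_eq_mul.1 hconj).symm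
    refine ⟨s * reflGO v hv, hcX.mul_left hcr, ?_, ?_⟩
    · rw [show mult (s * reflGO v hv) = _ from map_mul (multHom E) _ _]
      show ((mult s * mult _ : Fˣ) : F) = μ
      rw [Units.val_mul, hsm, mult_refl E, mul_one]
    · rw [dsign_mul E, hd, dsign_refl E, neg_one_mul, neg_neg]

end Cfsg.Agent.SemisimpleOrth
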