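import Cfsg.Agent.Lib.SemisimpleOrth.Similarity

/-!
A non-trivial semisimple isometry of odd exponent commutes with a special isometry of non-trivial spinor sign:
either two reflections in fixed vectors, or a Sylow 2-generator of the norm-one group of a minimal non-degenerate
invariant subspace, whose permutation of the sphere is odd.
-/

set_option autoImplicit false

namespace Cfsg.Agent.SemisimpleOrth

open scoped Matrix
open ClassicalSimple

variable {F : Type*} [Field F] [Fintype F] {ι : Type} [Fintype ι] [DecidableEq ι]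
variable {Q : QuadraticForm F (ι → F)} {k : ℕ} {M : Matrix ι ι F} {r : ℕ}

omit [Fintype F] in
/-- A `θ`-fixed idempotent on whose image `Q` vanishes is zero. -/
theorem idem_eq_zero (h : OddSS Q M r) {p : algebraOf M} (hp : IsIdempotentElem p) (hpθ : h.theta p = p)
    (h0 : ∀ w, Q ((p : Matrix ι ι F) *ᵥ w) = 0) : p = 0 := by
  refine Subtype.ext (Matrix.ext_of_mulVec_single fun i => ?_)
  rw [ZeroMemClass.coe_zero, Matrix.zero_mulVec]
  refine h.nondeg.1 _ fun w => ?_
  show QuadraticMap.polar ⇑Q ((p : Matrix ι ι F) *ᵥ Pi.single i 1) w = 0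
  rw [← hp.eq, Subalgebra.coe_mul, ← Matrix.mulVec_mulVec, polar_adj h.nondeg,
    show adj Q (p : Matrix ι ι F) = p from congrArg Subtype.val hpθ, QuadraticMap.polar, ← Matrix.mulVec_add, h0,
    h0, h0, sub_zero, sub_zero]

/-- A permutation of 2-power order moving `odd * order` points, freely, is odd. -/
theorem sign_eq_neg_one {α : Type*} [Fintype α] [DecidableEq α] (σ : Equiv.Perm α) {s : ℕ}
    (hσ : σ ^ 2 ^ (s + 1) = 1) (hfree : ∀ x, σ x ≠ x → (σ ^ 2 ^ s) x ≠ x) {t : ℕ} (ht : Odd t)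
    (hcard : σ.support.card = t * 2 ^ (s + 1)) : Equiv.Perm.sign σ = -1 := by
  have hall : ∀ n ∈ σ.cycleType, n = 2 ^ (s + 1) := by
    intro n hn
    obtain ⟨c, τ, hστ, hd, hc, hcard'⟩ := Equiv.Perm.mem_cycleType_iff.1 hn
    have hdvd := (Equiv.Perm.dvd_of_mem_cycleType hn).trans (orderOf_dvd_of_pow_eq_one hσ)
    obtain ⟨j, hj, rfl⟩ := (Nat.dvd_prime_pow Nat.prime_two).1 hdvd
    rcases Nat.eq_or_lt_of_le hj with rfl | hlt
    · rfl
    exfalso
    obtain ⟨x, hx⟩ := Finset.card_pos.1 (hc.two_le_card_support.trans_lt' two_pos)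
    have hτx : τ x = x := (hd x).resolve_left (Equiv.Perm.mem_support.1 hx)
    have hσx : σ x ≠ x := by
      rw [hστ, Equiv.Perm.mul_apply, hτx]
      exact Equiv.Perm.mem_support.1 hx
    refine hfree x hσx ?_
    have h1 : c ^ 2 ^ s = 1 := by
      rw [← orderOf_dvd_iff_pow_eq_one, hc.orderOf, hcard']
      exact pow_dvd_pow 2 (by omega)
    rw [hστ, hd.commute.mul_pow, h1, one_mul]
    exact Equiv.Perm.pow_apply_eq_self_of_apply_eq_self hτx _
  have hc : σ.cycleType = Multiset.replicate (Multiset.card σ.cycleType) (2 ^ (s + 1)) :=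
    Multiset.eq_replicate_card.2 hall
  have hsum : σ.cycleType.sum = Multiset.card σ.cycleType * 2 ^ (s + 1) := by
    conv_lhs => rw [hc, Multiset.sum_replicate, smul_eq_mul]
  have hct : Multiset.card σ.cycleType = t := by
    refine mul_right_cancel₀ (pow_ne_zero (s + 1) two_ne_zero) ?_
    rw [← hsum, Equiv.Perm.sum_cycleType, hcard]
  rw [Equiv.Perm.sign_of_cycleType, hsum, hct]
  exact Odd.neg_one_pow (Even.add_odd ((Nat.even_pow.2 ⟨even_two, s.succ_ne_zero⟩).mul_left t) ht)

/-- The sphere sign of a special isometry commuting with `g` is `-1` for some choice. -/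
theorem exists_spin_commute [DecidableEq F] (E : EvenForm Q k) (g : GO Q) (h : OddSS Q g.1.val r) (hg : g ≠ 1) :
    ∃ t : soSub Q, Commute t.1 g ∧ spin Q t = -1 := by
  classical
  obtain ⟨ν, hν0, hν⟩ := exists_nonsquare' E
  by_cases hfixed : ∃ v, Q v ≠ 0 ∧ g.1.val *ᵥ v = v
  · obtain ⟨v, hv, hgv⟩ := hfixed
    obtain ⟨s, hsg, hsm, -⟩ := exists_sim_commute E g h hν0 hν
    set w := s.1.val *ᵥ v with hwdef
    have hw : Q w ≠ 0 := by rw [hwdef, mult_spec, hsm]; exact mul_ne_zero hν0 hv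
    have hgw : g.1.val *ᵥ w = w := by
      rw [hwdef, Matrix.mulVec_mulVec,
        show g.1.val * s.1.val = s.1.val * g.1.val from congrArg (fun x : GO Q => x.1.val) hsg.eq.symm,
        ← Matrix.mulVec_mulVec, hgv]
    have hcomm : ∀ (x : ι → F) (hx : Q x ≠ 0), g.1.val *ᵥ x = x → Commute (reflGO x hx) g := by
      intro x hx hgx
      obtain ⟨hv', hconj⟩ := conj_reflGO g x hx
      have e1 : reflGO (g.1.val *ᵥ x) hv' = reflGO x hx :=
        reflGO_congr hx hv' (c := 1) (by rw [one_smul]; exact hgx)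
      rw [e1] at hconj
      exact (mul_inv_eq_iff_eq_mul.1 hconj).symm
    obtain ⟨t, ht, hts⟩ := exists_pair_so E v w hv hw
    refine ⟨t, ht ▸ (hcomm v hv hgv).mul_left (hcomm w hw hgw), spin_eq_neg ?_⟩
    rw [hts, hwdef, mult_spec, hsm, map_mul, (quadraticChar_neg_one_iff_not_isSquare).2 hν]
    rcases quadraticChar_dichotomy hv with e | e <;> rw [e] <;> norm_num
  push Not at hfixed
  have := h.isReduced
  set M₀ := g.1.val with hM₀
  obtain ⟨e, u, he, heθ, hu, hue, hfix⟩ := h.exists_support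
  have he1 : e = 1 := by
    refine (sub_eq_zero.1 (idem_eq_zero h he.one_sub (by rw [map_sub, map_one, heθ]) fun w => ?_)).symm
    by_contra hne
    refine hfixed _ hne (hfix _ ?_)
    rw [Matrix.mulVec_mulVec, ← Subalgebra.coe_mul, he.one_sub.eq]
  have hu0 : ∀ y, u * y = 0 → y = 0 := fun y hy => by simpa [he1] using hue y hy
  have h1A : (1 : algebraOf M₀) ≠ 0 := by
    intro e0
    obtain ⟨v, hv⟩ := E.exists_value one_ne_zero
    have hv0 : v = 0 := by
      rw [← Matrix.one_mulVec v, ← OneMemClass.coe_one (algebraOf M₀), e0, ZeroMemClass.coe_zero, Matrix.zero_mulVec]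
    rw [hv0, QuadraticMap.map_zero] at hv
    exact zero_ne_one hv
  obtain ⟨e₁, hmin, -⟩ := exists_thetaMinimal h.theta IsIdempotentElem.one (map_one _) h1A
  obtain ⟨he₁, he₁θ, he₁0, -⟩ := id hmin
  obtain ⟨v₁, hv₁⟩ : ∃ w, Q ((e₁ : Matrix ι ι F) *ᵥ w) ≠ 0 := by
    by_contra! hc
    exact he₁0 (idem_eq_zero h he₁ he₁θ hc)
  set v₀ := (e₁ : Matrix ι ι F) *ᵥ v₁ with hv₀
  -- the cyclic subspace
  let φ : algebraOf M₀ → F := fun x => QuadraticMap.polar ⇑Q v₀ ((x : Matrix ι ι F) *ᵥ v₀)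
  let L : algebraOf M₀ →ₗ[F] (ι → F) :=
    { toFun := fun x => ((x * e₁ : algebraOf M₀) : Matrix ι ι F) *ᵥ v₀
      map_add' := fun x y => by rw [add_mul, AddMemClass.coe_add, Matrix.add_mulVec]
      map_smul' := fun c x => by rw [smul_mul_assoc, SetLike.val_smul, Matrix.smul_mulVec]; rfl }
  have hLe : ∀ x, x * e₁ = x → L x = (x : Matrix ι ι F) *ᵥ v₀ := fun x hx => by
    show ((x * e₁ : algebraOf M₀) : Matrix ι ι F) *ᵥ v₀ = _
    rw [hx]
  have hLmul : ∀ x y, L (x * y) = (x : Matrix ι ι F) *ᵥ L y := fun x y => by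
    show ((x * y * e₁ : algebraOf M₀) : Matrix ι ι F) *ᵥ v₀ = (x : Matrix ι ι F) *ᵥ (_ *ᵥ v₀)
    rw [mul_assoc, Subalgebra.coe_mul]
    exact (Matrix.mulVec_mulVec _ _ _).symm
  have hLr : ∀ x, L (x * e₁) = L x := fun x => by
    show ((x * e₁ * e₁ : algebraOf M₀) : Matrix ι ι F) *ᵥ v₀ = _
    rw [mul_assoc, he₁.eq]
    rfl
  have hφθ : ∀ x, φ (h.theta x) = φ x := fun x => by
    show QuadraticMap.polar ⇑Q v₀ (adj Q (x : Matrix ι ι F) *ᵥ v₀) = _
    rw [← polar_adj h.nondeg, QuadraticMap.polar_comm]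
  have hφadd : ∀ x y, φ (x + y) = φ x + φ y := fun x y => by
    simp only [φ, AddMemClass.coe_add, Matrix.add_mulVec, QuadraticMap.polar_add_right]
  have hφsmul : ∀ (c : F) x, φ (c • x) = c * φ x := fun c x => by
    simp only [φ, SetLike.val_smul, Matrix.smul_mulVec, QuadraticMap.polar_smul_right, smul_eq_mul]
  have hev : (e₁ : Matrix ι ι F) *ᵥ v₀ = v₀ := by
    rw [hv₀, Matrix.mulVec_mulVec, ← Subalgebra.coe_mul, he₁.eq]
  have hφe : φ e₁ = 2 * Q v₀ := by
    show QuadraticMap.polar ⇑Q v₀ ((e₁ : Matrix ι ι F) *ᵥ v₀) = _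
    rw [hev, polar_self']
  have hann : ∀ d, d * e₁ = d → (∀ y, φ (d * y) = 0) → d = 0 := by
    intro d hd hy
    have hz : ∀ y, d * y + h.theta (d * y) = 0 := by
      intro y
      by_contra hne
      obtain ⟨w, hw⟩ := hmin.exists_inv (z := d * y + h.theta (d * y))
        (by rw [map_add, h.theta_theta, add_comm])
        (by rw [add_mul, mul_right_comm, hd]; congr 1
            calc h.theta (d * y) * e₁ = h.theta (d * y * e₁) := by rw [map_mul _ _ e₁, he₁θ]
              _ = h.theta (d * y) := by rw [mul_right_comm, hd]) hne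
      have e1 : φ e₁ = 0 := by
        rw [← hw, add_mul, hφadd, mul_assoc, hy, zero_add,
          show h.theta (d * y) * w = h.theta (d * y * h.theta w) by rw [map_mul _ _ (h.theta w), h.theta_theta],
          hφθ, mul_assoc, hy]
      rw [hφe] at e1
      exact mul_ne_zero h.two hv₁ e1
    have h1 := hz 1
    rw [mul_one] at h1
    have h2 := hz u
    rw [map_mul, hu, eq_neg_of_add_eq_zero_right h1, neg_mul_neg, ← two_mul] at h2
    exact hu0 _ (by rw [mul_comm]; exact h.isUnit_two.mul_right_eq_zero.1 h2)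
  have hLinj : ∀ x, x * e₁ = x → L x = 0 → x = 0 := fun x hx hLx => hann x hx fun y => by
    show QuadraticMap.polar ⇑Q v₀ (((x * y : algebraOf M₀) : Matrix ι ι F) *ᵥ v₀) = 0
    rw [mul_comm, Subalgebra.coe_mul, ← Matrix.mulVec_mulVec, ← hLe x hx, hLx, Matrix.mulVec_zero,
      QuadraticMap.polar_zero_right]
  have hpolarL : ∀ x y, x * e₁ = x → QuadraticMap.polar ⇑Q (L x) (L y) = φ (h.theta x * (y * e₁)) := by
    intro x y hx
    rw [hLe x hx, polar_adj h.nondeg]
    show _ = QuadraticMap.polar ⇑Q v₀ _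
    rw [Subalgebra.coe_mul (algebraOf M₀) (h.theta x), ← Matrix.mulVec_mulVec]
    rfl
  set B : LinearMap.BilinForm F (ι → F) := QuadraticMap.polarBilin Q with hB
  set W := LinearMap.range L with hW
  have hWcl : ∀ (x : algebraOf M₀) (w : ι → F), w ∈ W → (x : Matrix ι ι F) *ᵥ w ∈ W := by
    rintro x _ ⟨y, rfl⟩
    exact ⟨x * y, hLmul x y⟩
  have hW'cl : ∀ (x : algebraOf M₀) (z : ι → F), z ∈ B.orthogonal W → (x : Matrix ι ι F) *ᵥ z ∈ B.orthogonal W := by
    intro x z hz w hw
    show QuadraticMap.polar ⇑Q w ((x : Matrix ι ι F) *ᵥ z) = 0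
    rw [QuadraticMap.polar_comm, polar_adj h.nondeg, QuadraticMap.polar_comm]
    exact hz _ (hWcl (h.theta x) w hw)
  have hrefl : B.IsRefl := fun x y hxy => by
    rw [hB, QuadraticMap.polarBilin_apply_apply] at hxy ⊢
    rwa [QuadraticMap.polar_comm]
  have hcompl : IsCompl W (B.orthogonal W) := by
    refine LinearMap.BilinForm.isCompl_orthogonal_of_restrict_nondegenerate hrefl ?_
    refine (LinearMap.IsRefl.nondegenerate_iff_separatingLeft ?_).2 fun w hw => ?_
    · intro a b hab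
      exact hrefl _ _ hab
    · obtain ⟨_, x, rfl⟩ := w
      have hx' := hann (h.theta (x * e₁)) (by rw [← he₁θ, ← map_mul, he₁θ, mul_assoc, he₁.eq]) fun y => by
        have h1 : QuadraticMap.polar ⇑Q (L (x * e₁)) (L y) = 0 := by rw [hLr]; exact hw ⟨_, y, rfl⟩
        rw [hpolarL _ _ (by rw [mul_assoc, he₁.eq])] at h1
        rwa [← mul_assoc, mul_right_comm, show h.theta (x * e₁) * e₁ = h.theta (x * e₁) by
          rw [map_mul, he₁θ, mul_assoc, he₁.eq]] at h1
      have h0 : x * e₁ = 0 := by rw [← h.theta_theta (x * e₁), hx', map_zero]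
      exact Subtype.ext (show L x = 0 by rw [← hLr x, h0, map_zero])
  -- the generator
  set U := normOne h.theta e₁
  have := hmin.isCyclic_normOne
  obtain ⟨a₀, ha₀⟩ := IsCyclic.exists_generator (α := U)
  have hordU : orderOf a₀ = Nat.card U := orderOf_eq_card_of_forall_mem_zpowers ha₀
  obtain ⟨c, t, ht, hct⟩ : ∃ c t, Odd t ∧ Nat.card U = t * 2 ^ (c + 1) := by
    obtain ⟨c, t, ht, e'⟩ := Nat.exists_eq_two_pow_mul_odd (Nat.card_pos (α := U)).ne'
    rcases c with _ | c
    · have h2 := hmin.even_card_normOne h.isUnit_two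
      rw [e', pow_zero, one_mul] at h2
      exact absurd (even_iff_two_dvd.2 h2) (Nat.not_even_iff_odd.2 ht)
    · exact ⟨c, t, ht, by rw [e', mul_comm]⟩
  set a := a₀ ^ t with hadef
  have hao : orderOf a = 2 ^ (c + 1) := by
    rw [hadef, orderOf_pow_of_dvd ht.pos.ne' (by rw [hordU, hct]; exact dvd_mul_right _ _), hordU, hct,
      Nat.mul_div_cancel_left _ ht.pos]
  obtain ⟨hac, haN⟩ := mem_normOne.1 a.2
  set X : Matrix ι ι F := (((a : (algebraOf M₀)ˣ) : algebraOf M₀) : Matrix ι ι F) with hX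
  let dec := Submodule.prodEquivOfIsCompl W (B.orthogonal W) hcompl
  let TW : W →ₗ[F] W := (Matrix.toLin' X).restrict fun w hw => hWcl _ w hw
  let T : (ι → F) →ₗ[F] (ι → F) :=
    (dec.toLinearMap ∘ₗ TW.prodMap LinearMap.id) ∘ₗ dec.symm.toLinearMap
  have hT : ∀ (w : W) (z : B.orthogonal W), T ((w : ι → F) + z) = X *ᵥ w + z := by
    intro w z
    have e2 : dec (w, z) = (w : ι → F) + z := Submodule.coe_prodEquivOfIsCompl' _ _ _ _
    show dec ((TW.prodMap LinearMap.id) (dec.symm ((w : ι → F) + z))) = _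
    rw [← e2, LinearEquiv.symm_apply_apply, LinearMap.prodMap_apply, Submodule.coe_prodEquivOfIsCompl']
    rfl
  have hsplit : ∀ v : ι → F, ∃ (w : W) (z : B.orthogonal W), v = (w : ι → F) + z := fun v => by
    obtain ⟨⟨w, z⟩, rfl⟩ := dec.surjective v
    exact ⟨w, z, Submodule.coe_prodEquivOfIsCompl' _ _ _ _⟩
  have horth : ∀ (w z : ι → F), w ∈ W → z ∈ B.orthogonal W → QuadraticMap.polar ⇑Q w z = 0 := fun w z hw hz =>
    hz w hw
  have hQsum : ∀ (w z : ι → F), w ∈ W → z ∈ B.orthogonal W → Q (w + z) = Q w + Q z := fun w z hw hz => by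
    have := horth w z hw hz
    rw [QuadraticMap.polar] at this
    linear_combination this
  have hXX : adj Q X * X = 1 := by
    have := congrArg Subtype.val haN
    rw [mul_comm] at this
    exact this
  have hQX : ∀ v, Q (X *ᵥ v) = Q v := fun v => by
    rw [quad_of_adj h.nondeg h.two (c := 1) (by rw [one_smul]; exact hXX), one_mul]
  set TM := LinearMap.toMatrix' T with hTM
  have hTMv : ∀ v, TM *ᵥ v = T v := fun v => by rw [← Matrix.toLin'_apply, hTM, Matrix.toLin'_toMatrix']
  have hTQ : ∀ v, Q (TM *ᵥ v) = Q v := by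
    intro v
    obtain ⟨w, z, rfl⟩ := hsplit v
    rw [hTMv, hT, hQsum _ _ (hWcl _ _ w.2) z.2, hQX, hQsum _ _ w.2 z.2]
  have hTM0 : Commute TM M₀ := by
    show TM * M₀ = M₀ * TM
    refine Matrix.ext_of_mulVec_single fun i => ?_
    rw [← Matrix.mulVec_mulVec, ← Matrix.mulVec_mulVec, hTMv, hTMv]
    obtain ⟨w, z, hwz⟩ := hsplit (Pi.single i 1)
    let m₀ : algebraOf M₀ := ⟨M₀, Algebra.self_mem_adjoin_singleton F M₀⟩
    rw [hwz, Matrix.mulVec_add, hT ⟨_, hWcl m₀ _ w.2⟩ ⟨_, hW'cl m₀ _ z.2⟩, hT, Matrix.mulVec_add]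
    congr 1
    rw [Matrix.mulVec_mulVec, Matrix.mulVec_mulVec]
    exact congrArg (· *ᵥ (w : ι → F)) (commute_of_mem ((a : (algebraOf M₀)ˣ) : algebraOf M₀).2).eq
  obtain ⟨s, hs, hsm⟩ := exists_GO_of_quad E TM one_ne_zero (fun v => by rw [hTQ, one_mul])
  have hscomm : Commute s g := Subtype.ext (Units.ext (by
    show s.1.val * g.1.val = g.1.val * s.1.val
    rw [hs]; exact hTM0))
  have hsd : dsign k s = 1 := by
    rw [dsign_isometry E s hsm, hs]
    set Um : Matrix ι ι F := (u : Matrix ι ι F)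
    have hUT : Commute Um TM := by
      have hall : ∀ Y ∈ algebraOf M₀, Commute Y TM := fun Y hY => by
        induction hY using Algebra.adjoin_induction with
        | mem y hy =>
          rw [Set.mem_singleton_iff] at hy
          exact hy ▸ hTM0.symm
        | algebraMap x => exact Algebra.commutes x TM
        | add a b _ _ h1 h2 => exact h1.add_left h2
        | mul a b _ _ h1 h2 => exact h1.mul_left h2
      exact hall _ u.2
    have hUdet : (Umᵀ * gramM Q).det ≠ 0 := by
      rw [Matrix.det_mul, Matrix.det_transpose]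
      refine mul_ne_zero ?_ (det_gramM h.nondeg).ne_zero
      obtain ⟨w, hw⟩ := isUnit_iff_exists_inv.1 (isUnit_of_ann hu0)
      exact left_ne_zero_of_mul_eq_one (b := (w : Matrix ι ι F).det)
        (by rw [← Matrix.det_mul, show Um * (w : Matrix ι ι F) = 1 from congrArg Subtype.val hw, Matrix.det_one])
    have halt : ∀ v, v ⬝ᵥ ((Umᵀ * gramM Q) *ᵥ v) = 0 := by
      intro v
      have e1 : v ⬝ᵥ ((Umᵀ * gramM Q) *ᵥ v) = QuadraticMap.polar ⇑Q (Um *ᵥ v) v := by
        rw [polar_eq, ← Matrix.mulVec_mulVec, Matrix.dotProduct_mulVec, Matrix.vecMul_transpose]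
      have e2 := polar_adj h.nondeg Um v v
      rw [show adj Q Um = -Um from congrArg Subtype.val hu, Matrix.neg_mulVec, QuadraticMap.polar_neg_right,
        QuadraticMap.polar_comm ⇑Q v] at e2
      rw [e1]
      exact mul_left_cancel₀ h.two (by linear_combination e2)
    have hTG : TMᵀ * gramM Q * TM = gramM Q := by
      have h1 : adj Q TM * TM = 1 := by
        have hdet : IsUnit TM.det := by
          rw [← hs]
          exact isUnit_iff_ne_zero.2 (Matrix.GeneralLinearGroup.det s.1).ne_zero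
        rw [adj_eq_of_isometry h.nondeg hTQ (Matrix.mul_nonsing_inv _ hdet), Matrix.nonsing_inv_mul _ hdet]
      calc TMᵀ * gramM Q * TM = gramM Q * (adj Q TM * TM) := by
            simp only [adj, Matrix.mul_assoc, Matrix.mul_nonsing_inv_cancel_left _ _ (det_gramM h.nondeg)]
        _ = gramM Q := by rw [h1, mul_one]
    obtain ⟨k', -, hd⟩ := det_of_alt one_ne_zero hUdet halt (X := TM) (by
      rw [one_smul, ← Matrix.mul_assoc, ← Matrix.transpose_mul, hUT.eq, Matrix.transpose_mul, Matrix.mul_assoc,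
        Matrix.mul_assoc, ← Matrix.mul_assoc TMᵀ, hTG])
    rw [hd, one_pow]
  have hsS : s ∈ soSub Q := (mem_soSub E s).2 ⟨hsm, hsd⟩
  refine ⟨⟨s, hsS⟩, hscomm, ?_⟩
  rw [spin_apply]
  show Equiv.Perm.sign (QForm.spherePerm Q ⟨s.1, hsS.1⟩) = -1
  set σ := QForm.spherePerm Q ⟨s.1, hsS.1⟩ with hσ
  have hσv : ∀ v : {x : ι → F // Q x = 1}, (σ v : ι → F) = T v := fun v => by
    show s.1.val *ᵥ (v : ι → F) = _
    rw [hs, hTMv]
  have hσj : ∀ (j : ℕ) (v : {x : ι → F // Q x = 1}) (w : W) (z : B.orthogonal W),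
      (v : ι → F) = (w : ι → F) + z →
      ((σ ^ j) v : ι → F) = ((((a ^ j : U) : (algebraOf M₀)ˣ) : algebraOf M₀) : Matrix ι ι F) *ᵥ w + z := by
    intro j
    induction j with
    | zero => intro v w z hv; simpa using hv
    | succ j ih =>
      intro v w z hv
      rw [pow_succ', Equiv.Perm.mul_apply, hσv, ih v w z hv, hT ⟨_, hWcl _ _ w.2⟩ z, pow_succ',
        Subgroup.coe_mul, Units.val_mul, Subalgebra.coe_mul, ← Matrix.mulVec_mulVec]
  -- fixed vectors
  have hWx : ∀ w : W, ∃ x, x * e₁ = x ∧ (w : ι → F) = L x := by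
    rintro ⟨_, y, rfl⟩
    exact ⟨y * e₁, by rw [mul_assoc, he₁.eq], (hLr y).symm⟩
  have hfree : ∀ (j : ℕ) (v : {x : ι → F // Q x = 1}) (w : W) (z : B.orthogonal W),
      (v : ι → F) = (w : ι → F) + z → ((σ ^ j) v = v ↔ ((a ^ j : U) = 1 ∨ (w : ι → F) = 0)) := by
    intro j v w z hv
    constructor
    · intro hfx
      have h1 := hσj j v w z hv
      rw [hfx, hv] at h1
      have h2 := add_right_cancel h1
      obtain ⟨x, hx, hwx⟩ := hWx w
      obtain ⟨hjc, hjN⟩ := mem_normOne.1 (a ^ j).2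
      set q : algebraOf M₀ := (((a ^ j : U) : (algebraOf M₀)ˣ) : algebraOf M₀)
      have h3 : (q - 1) * x = 0 := by
        refine hLinj _ (by rw [mul_assoc, hx]) ?_
        rw [hLmul, ← hwx, AddSubgroupClass.coe_sub, OneMemClass.coe_one, Matrix.sub_mulVec, Matrix.one_mulVec,
          ← h2, sub_self]
      rcases hmin.eq_zero_of_norm_one_sub hjN hjc hx h3 with hx0 | hq
      · exact Or.inr (by rw [hwx, hx0, map_zero])
      · exact Or.inl (Subtype.ext (Units.ext hq))
    · intro hor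
      refine Subtype.ext ?_
      rw [hσj j v w z hv, hv]
      rcases hor with h1 | h1
      · rw [h1]; simp
      · rw [h1, Matrix.mulVec_zero]
  -- counting
  let Xs : F → Set (algebraOf M₀) := fun cc => {x | x * e₁ = x ∧ x ≠ 0 ∧ Q (L x) = cc}
  have hdvd : ∀ cc, Nat.card U ∣ Nat.card (Xs cc) := by
    intro cc
    have hmem : ∀ (q : U) (x : algebraOf M₀), x ∈ Xs cc → ((q : (algebraOf M₀)ˣ) : algebraOf M₀) * x ∈ Xs cc := by
      rintro q x ⟨hx1, hx2, hx3⟩
      refine ⟨by rw [mul_assoc, hx1], fun e0 => hx2 (by simpa using e0), ?_⟩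
      rw [hLmul, quad_of_adj h.nondeg h.two (c := 1) (by
        rw [one_smul]
        have := congrArg Subtype.val (mem_normOne.1 q.2).2
        rw [mul_comm] at this
        exact this), one_mul, hx3]
    letI : MulAction U (Xs cc) :=
      { smul := fun q x => ⟨((q : (algebraOf M₀)ˣ) : algebraOf M₀) * x.1, hmem q x.1 x.2⟩
        one_smul := fun x => Subtype.ext (one_mul _)
        mul_smul := fun q q' x => Subtype.ext (mul_assoc _ _ _) }
    have hstab : ∀ x : Xs cc, MulAction.stabilizer U x = ⊥ := by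
      intro x
      refine (Subgroup.eq_bot_iff_forall _).2 fun q hq => ?_
      obtain ⟨hqc, hqN⟩ := mem_normOne.1 q.2
      have h1 : ((q : (algebraOf M₀)ˣ) : algebraOf M₀) * x.1 = x.1 :=
        congrArg Subtype.val (MulAction.mem_stabilizer_iff.1 hq)
      rcases hmin.eq_zero_of_norm_one_sub hqN hqc x.2.1 (by rw [sub_mul, one_mul, h1, sub_self]) with h0 | h0
      · exact absurd h0 x.2.2.1
      · exact Subtype.ext (Units.ext h0)
    exact ⟨_, (Nat.card_congr (MulAction.selfEquivOrbitsQuotientProd hstab)).trans (Nat.card_prod _ _) |>.trans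
      (mul_comm _ _)⟩
  obtain ⟨n₁, hn₁, hcard1⟩ : ∃ n, Odd n ∧ Nat.card (Xs 1) = n * Nat.card U := by
    let Z : Set (algebraOf M₀) := {z | h.theta z = z ∧ z * e₁ = z ∧ φ z = 2}
    have hunit : ∀ z ∈ Z, IsUnit (z + (1 - e₁)) ∧ z ≠ 0 := by
      rintro z ⟨hz1, hz2, hz3⟩
      have hz0 : z ≠ 0 := by
        rintro rfl
        rw [show φ 0 = 0 by simp [φ]] at hz3
        exact h.two hz3.symm
      refine ⟨?_, hz0⟩
      obtain ⟨w, hw⟩ := hmin.exists_inv hz1 hz2 hz0
      refine isUnit_of_ann fun y hy => ?_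
      have e1 : z * y = 0 := by
        calc z * y = e₁ * ((z + (1 - e₁)) * y) := by
              have hf : e₁ * (1 - e₁) = 0 := by rw [mul_sub, mul_one, he₁.eq, sub_self]
              calc z * y = z * e₁ * y + e₁ * (1 - e₁) * y := by rw [hz2, hf, zero_mul, add_zero]
                _ = e₁ * ((z + (1 - e₁)) * y) := by ring
          _ = 0 := by rw [hy, mul_zero]
      have e2 : e₁ * y = 0 := by rw [← hw, mul_right_comm, e1, zero_mul]
      rwa [add_mul, e1, zero_add, sub_mul, one_mul, e2, sub_zero] at hy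
    have hsec : ∀ z : Z, ∃ s : (algebraOf M₀)ˣ, s ∈ corner e₁ ∧
        (s : algebraOf M₀) * h.theta (s : algebraOf M₀) = z.1 + (1 - e₁) := by
      intro z
      obtain ⟨s, hs1, hs2⟩ := exists_norm_eq_of_fixed h.theta h.theta_theta h.isUnit_two he₁ he₁θ hu
        (fun y hy => by rw [hu0 y hy, mul_zero]) (hunit z.1 z.2).1.unit
        (by
          show (z.1 + (1 - e₁)) * (1 - e₁) = 1 - e₁
          rw [add_mul, he₁.one_sub.eq, ← z.2.2.1, mul_assoc, mul_sub, mul_one, he₁.eq, sub_self, mul_zero,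
            zero_add])
        (by
          show h.theta (z.1 + (1 - e₁)) = z.1 + (1 - e₁)
          rw [map_add, map_sub, map_one, he₁θ, z.2.1])
      exact ⟨s, hs1, hs2⟩
    choose sec hsec1 hsec2 using hsec
    have hZe : ∀ z : Z, ((sec z : (algebraOf M₀)) * e₁) * h.theta ((sec z : algebraOf M₀) * e₁) = z.1 := by
      intro z
      rw [map_mul, he₁θ, mul_mul_mul_comm, hsec2, he₁.eq, add_mul, sub_mul, one_mul, he₁.eq, sub_self,
        add_zero, z.2.2.1]
    have hQL : ∀ x, x * e₁ = x → 2 * Q (L x) = φ (x * h.theta x) := fun x hx => by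
      rw [← polar_self', hpolarL x x hx, hx, mul_comm]
    let f : Z × U → Xs 1 := fun p => ⟨((p.2 : (algebraOf M₀)ˣ) : algebraOf M₀) * ((sec p.1 : algebraOf M₀) * e₁), by
      have hx : ((p.2 : (algebraOf M₀)ˣ) : algebraOf M₀) * ((sec p.1 : algebraOf M₀) * e₁) * e₁ =
          ((p.2 : (algebraOf M₀)ˣ) : algebraOf M₀) * ((sec p.1 : algebraOf M₀) * e₁) := by
        rw [mul_assoc, mul_assoc, he₁.eq]
      have hN : ((p.2 : (algebraOf M₀)ˣ) : algebraOf M₀) * ((sec p.1 : algebraOf M₀) * e₁) *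
          h.theta (((p.2 : (algebraOf M₀)ˣ) : algebraOf M₀) * ((sec p.1 : algebraOf M₀) * e₁)) = p.1.1 := by
        rw [map_mul, mul_mul_mul_comm, (mem_normOne.1 p.2.2).2, one_mul, hZe]
      refine ⟨hx, fun e0 => (hunit _ p.1.2).2 ?_, ?_⟩
      · rw [← hN, e0, zero_mul]
      · refine mul_left_cancel₀ h.two ?_
        rw [hQL _ hx, hN, p.1.2.2.2, mul_one]⟩
    have hfinj : Function.Injective f := by
      rintro ⟨z, q⟩ ⟨z', q'⟩ e'
      have e1 := congrArg Subtype.val e'
      simp only [f] at e1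
      have hzz : z = z' := by
        refine Subtype.ext ?_
        have hNz : ∀ (z : Z) (q : U), ((q : (algebraOf M₀)ˣ) : algebraOf M₀) * ((sec z : algebraOf M₀) * e₁) *
            h.theta (((q : (algebraOf M₀)ˣ) : algebraOf M₀) * ((sec z : algebraOf M₀) * e₁)) = z.1 := by
          intro z q
          rw [map_mul, mul_mul_mul_comm, (mem_normOne.1 q.2).2, one_mul, hZe]
        rw [← hNz z q, ← hNz z' q', e1]
      subst hzz
      refine Prod.ext rfl ?_
      obtain ⟨hqc, hqN⟩ := mem_normOne.1 (q'⁻¹ * q).2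
      have h1 : ((((q'⁻¹ * q : U) : (algebraOf M₀)ˣ) : algebraOf M₀) - 1) * ((sec z : algebraOf M₀) * e₁) = 0 := by
        rw [sub_mul, one_mul, Subgroup.coe_mul, Units.val_mul, mul_assoc, e1, Subgroup.coe_inv,
          Units.inv_mul_cancel_left, sub_self]
      rcases hmin.eq_zero_of_norm_one_sub hqN hqc (by rw [mul_assoc, he₁.eq]) h1 with h0 | h0
      · exact absurd (by rw [← hZe z, h0, zero_mul]) (hunit _ z.2).2
      · exact (inv_mul_eq_one.1 (Subtype.ext (Units.ext h0) : q'⁻¹ * q = 1)).symm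
    have hfsurj : Function.Surjective f := by
      rintro ⟨x, hx1, hx2, hx3⟩
      have hzZ : x * h.theta x ∈ Z := by
        refine ⟨by rw [map_mul, h.theta_theta, mul_comm], by rw [mul_right_comm, hx1], ?_⟩
        rw [← hQL x hx1, hx3, mul_one]
      set z : Z := ⟨_, hzZ⟩
      obtain ⟨hzu, -⟩ := hunit z.1 z.2
      have hf0 : x * (1 - e₁) = 0 := by rw [mul_sub, mul_one, hx1, sub_self]
      have hN : (x + (1 - e₁)) * h.theta (x + (1 - e₁)) = z.1 + (1 - e₁) := by
        have hf0' : h.theta x * (1 - e₁) = 0 := by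
          have := congrArg h.theta hf0
          rwa [map_mul, map_sub, map_one, he₁θ, map_zero] at this
        rw [map_add, map_sub, map_one, he₁θ]
        calc (x + (1 - e₁)) * (h.theta x + (1 - e₁)) = x * h.theta x + x * (1 - e₁) +
              h.theta x * (1 - e₁) + (1 - e₁) * (1 - e₁) := by ring
          _ = _ := by rw [hf0, hf0', add_zero, add_zero, he₁.one_sub.eq]
      have hxu : IsUnit (x + (1 - e₁)) := isUnit_of_mul_isUnit_left (hN ▸ hzu)
      set q : (algebraOf M₀)ˣ := hxu.unit * (sec z)⁻¹ with hq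
      have hqU : q ∈ U := by
        have hqc : q ∈ corner e₁ := mul_mem (by
          show (x + (1 - e₁)) * (1 - e₁) = 1 - e₁
          rw [add_mul, hf0, zero_add, he₁.one_sub.eq]) (inv_mem (hsec1 z))
        refine mem_normOne.2 ⟨hqc, ?_⟩
        have hqs : (q : algebraOf M₀) * (sec z : algebraOf M₀) = x + (1 - e₁) := by
          rw [hq, Units.val_mul, Units.inv_mul_cancel_right]; rfl
        refine hzu.mul_right_cancel ?_
        calc (q : algebraOf M₀) * h.theta (q : algebraOf M₀) * (z.1 + (1 - e₁))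
            = ((q : algebraOf M₀) * sec z) * (h.theta ((q : algebraOf M₀) * sec z)) := by
              rw [← hsec2 z, map_mul]; ring
          _ = 1 * (z.1 + (1 - e₁)) := by rw [hqs, hN, one_mul]
      refine ⟨(z, ⟨q, hqU⟩), Subtype.ext ?_⟩
      show (q : algebraOf M₀) * ((sec z : algebraOf M₀) * e₁) = x
      rw [← mul_assoc, hq, Units.val_mul, Units.inv_mul_cancel_right]
      show (x + (1 - e₁)) * e₁ = x
      rw [add_mul, hx1, sub_mul, one_mul, he₁.eq, sub_self, add_zero]
    refine ⟨Nat.card Z, ?_, ?_⟩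
    · -- an affine subspace
      let Z₀ : AddSubgroup (algebraOf M₀) :=
        { carrier := {z | h.theta z = z ∧ z * e₁ = z ∧ φ z = 0}
          zero_mem' := ⟨map_zero _, zero_mul _, by simp [φ]⟩
          add_mem' := fun {x y} hx hy => ⟨by rw [map_add, hx.1, hy.1], by rw [add_mul, hx.2.1, hy.2.1],
            by rw [hφadd, hx.2.2, hy.2.2, add_zero]⟩
          neg_mem' := fun {x} hx => ⟨by rw [map_neg, hx.1], by rw [neg_mul, hx.2.1],
            by rw [← neg_one_smul F x, hφsmul, hx.2.2, mul_zero]⟩ }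
      set z₀ := (Q v₀)⁻¹ • e₁ with hz₀
      have hz₀θ : h.theta z₀ = z₀ := by rw [hz₀, h.theta_smul, he₁θ]
      have hz₀e : z₀ * e₁ = z₀ := by rw [hz₀, smul_mul_assoc, he₁.eq]
      have hz₀φ : φ z₀ = 2 := by rw [hz₀, hφsmul, hφe]; field_simp
      let eqv : Z₀ ≃ Z :=
        { toFun := fun w => ⟨w.1 + z₀, by rw [map_add, w.2.1, hz₀θ], by rw [add_mul, w.2.2.1, hz₀e],
            by rw [hφadd, w.2.2.2, hz₀φ, zero_add]⟩
          invFun := fun w => ⟨w.1 - z₀, by rw [map_sub, w.2.1, hz₀θ], by rw [sub_mul, w.2.2.1, hz₀e], by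
            have := hφadd (w.1 - z₀) z₀
            rw [sub_add_cancel, w.2.2.2, hz₀φ] at this
            linear_combination -this⟩
          left_inv := fun w => Subtype.ext (add_sub_cancel_right _ _)
          right_inv := fun w => Subtype.ext (sub_add_cancel _ _) }
      rw [← Nat.card_congr eqv]
      refine Odd.of_dvd_nat ?_ (AddSubgroup.card_addSubgroup_dvd_card Z₀)
      rw [Nat.card_eq_fintype_card, Module.card_eq_pow_finrank (K := F)]
      exact (Nat.odd_iff.2 (FiniteField.odd_card_of_char_ne_two fun hch => h.two (by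
        have := ringChar.Nat.cast_ringChar (R := F)
        rwa [hch, Nat.cast_ofNat] at this))).pow
    · rw [← Nat.card_eq_of_bijective f ⟨hfinj, hfsurj⟩, Nat.card_prod]
  -- the moved points
  have hmoved : Nat.card {v : {x : ι → F // Q x = 1} // σ v ≠ v} =
      ∑ z : B.orthogonal W, Nat.card (Xs (1 - Q (z : ι → F))) := by
    let f : (Σ z : B.orthogonal W, Xs (1 - Q (z : ι → F))) → {v : {x : ι → F // Q x = 1} // σ v ≠ v} := fun p =>
      ⟨⟨L p.2.1 + p.1.1, by rw [hQsum _ _ ⟨_, rfl⟩ p.1.2, p.2.2.2.2, sub_add_cancel]⟩, fun hfx => by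
        have := (hfree 1 _ ⟨_, p.2.1, rfl⟩ p.1 rfl).1 (by rw [pow_one]; exact hfx)
        rcases this with h1 | h1
        · rw [pow_one] at h1
          rw [h1, orderOf_one] at hao
          exact absurd hao.symm (Nat.one_lt_two_pow (by omega)).ne'
        · exact p.2.2.2.1 (hLinj _ p.2.2.1 h1)⟩
    rw [← Nat.card_sigma]
    refine (Nat.card_eq_of_bijective f ⟨?_, ?_⟩).symm
    · rintro ⟨z, x, hx⟩ ⟨z', x', hx'⟩ e'
      have e1 : L x + z.1 = L x' + z'.1 := congrArg (fun q => q.1.1) e'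
      have e2 : ((⟨L x, x, rfl⟩ : W), z) = ((⟨L x', x', rfl⟩ : W), z') := dec.injective (by
        rw [Submodule.coe_prodEquivOfIsCompl', Submodule.coe_prodEquivOfIsCompl']; exact e1)
      obtain ⟨e3, rfl⟩ := Prod.mk.inj e2
      have e4 : L x = L x' := congrArg Subtype.val e3
      have e5 : x = x' := sub_eq_zero.1 (hLinj _ (by rw [sub_mul, hx.1, hx'.1]) (by rw [map_sub, e4, sub_self]))
      subst e5
      rfl
    · rintro ⟨⟨v, hv⟩, hmv⟩
      obtain ⟨w, z, rfl⟩ := hsplit v
      obtain ⟨x, hx, hwx⟩ := hWx w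
      have hw0 : (w : ι → F) ≠ 0 := fun e0 => hmv (by
        have := (hfree 1 ⟨_, hv⟩ w z rfl).2 (Or.inr e0)
        rwa [pow_one] at this)
      refine ⟨⟨z, x, hx, fun e0 => hw0 (by rw [hwx, e0, map_zero]), ?_⟩, Subtype.ext (Subtype.ext ?_)⟩
      · rw [← hwx]
        rw [hQsum _ _ w.2 z.2] at hv
        linear_combination hv
      · exact (congrArg (· + (z : ι → F)) hwx).symm
  obtain ⟨T', hT'⟩ : Nat.card U ∣ Nat.card {v : {x : ι → F // Q x = 1} // σ v ≠ v} := by
    rw [hmoved]; exact Finset.dvd_sum fun z _ => hdvd _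
  have hT'odd : Odd T' := by
    choose dd hdd using fun z : B.orthogonal W => hdvd (1 - Q (z : ι → F))
    have hT'' : T' = ∑ z, dd z := by
      refine mul_left_cancel₀ (Nat.card_pos (α := U)).ne' ?_
      rw [← hT', hmoved, Finset.mul_sum]
      exact Finset.sum_congr rfl fun z _ => hdd z
    have hd0 : dd 0 = n₁ := by
      refine mul_left_cancel₀ (Nat.card_pos (α := U)).ne' ?_
      rw [← hdd 0, ZeroMemClass.coe_zero, QuadraticMap.map_zero, sub_zero, hcard1, mul_comm]
    have hneg : ∀ z, dd (-z) = dd z := fun z => by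
      refine mul_left_cancel₀ (Nat.card_pos (α := U)).ne' ?_
      rw [← hdd, ← hdd, NegMemClass.coe_neg, QuadraticMap.map_neg]
    rw [← ZMod.natCast_eq_one_iff_odd, hT'', Nat.cast_sum, ← Finset.add_sum_erase _ _ (Finset.mem_univ (0 : B.orthogonal W)),
      hd0, ZMod.natCast_eq_one_iff_odd.2 hn₁, add_eq_left]
    refine Finset.sum_involution (fun z _ => -z) (fun z _ => ?_) (fun z hz _ => ?_) (fun z hz => ?_) fun z _ => neg_neg z
    · rw [hneg]; exact CharTwo.add_self_eq_zero _
    · intro e0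
      refine (Finset.mem_erase.1 hz).1 ?_
      have h2z : (2 : F) • (z : ι → F) = 0 := by
        rw [two_smul]
        nth_rewrite 1 [show (z : ι → F) = -(z : ι → F) from (congrArg Subtype.val e0).symm]
        exact neg_add_cancel _
      exact Subtype.ext ((smul_eq_zero.1 h2z).resolve_left h.two)
    · exact Finset.mem_erase.2 ⟨fun e0 => (Finset.mem_erase.1 hz).1 (neg_eq_zero.1 e0), Finset.mem_univ _⟩
  refine sign_eq_neg_one σ (s := c) ?_ ?_ (t := T' * t) (hT'odd.mul ht) ?_
  · refine Equiv.ext fun v => ?_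
    obtain ⟨w, z, hv⟩ := hsplit v.1
    exact (hfree _ v w z hv).2 (Or.inl (hao ▸ pow_orderOf_eq_one a))
  · intro v hmv hfx
    obtain ⟨w, z, hv⟩ := hsplit v.1
    rcases (hfree _ v w z hv).1 hfx with h1 | h1
    · have := Nat.le_of_dvd (Nat.two_pow_pos c) (orderOf_dvd_of_pow_eq_one h1)
      rw [hao] at this
      exact absurd this (by rw [pow_succ]; have := Nat.two_pow_pos c; omega)
    · exact hmv (by
        have := (hfree 1 v w z hv).2 (Or.inr h1)
        rwa [pow_one] at this)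
  · rw [mul_assoc, ← hct, mul_comm, ← hT', Nat.card_eq_fintype_card, Fintype.card_subtype]
    congr 1

end Cfsg.Agent.SemisimpleOrth
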